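import Mathlib
import Cfsg.Prelude.Def_Characters
import Cfsg.Agent.Helper6.CycloVanish

set_option autoImplicit false

/-!
End game of S2312: conjugation invariance of the data, and the arithmetic step
`χ g = ± p ^ k`, `p ^ k ∣ |C_G(g)|`, `|Q| ∣ χ g` for a Sylow `p`-subgroup `Q` of `C_G(g)`
`⇒ χ g = ± |C_G(g)|_p`.
-/

namespace Cfsg.Agent.StV

open Cfsg Cfsg.Agent.Helper6

universe u

theorem stv_orderOf_conj {G : Type*} [Group G] (g c : G) : orderOf (c⁻¹ * g * c) = orderOf g := by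
  have := (MulAut.conj c⁻¹).orderOf_eq g
  rwa [MulAut.conj_apply, inv_inv] at this

theorem stv_card_centralizer_conj {G : Type*} [Group G] (g c : G) :
    Nat.card ↥(Subgroup.centralizer ({c⁻¹ * g * c} : Set G)) =
      Nat.card ↥(Subgroup.centralizer ({g} : Set G)) := by
  apply Nat.card_congr
  refine ⟨fun x => ⟨c * x.1 * c⁻¹, ?_⟩, fun x => ⟨c⁻¹ * x.1 * c, ?_⟩, ?_, ?_⟩
  · have hx := x.2
    rw [Subgroup.mem_centralizer_singleton_iff] at hx ⊢
    have e1 : c * (x : G) * c⁻¹ * g = c * ((x : G) * (c⁻¹ * g * c)) * c⁻¹ := by group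
    have e2 : g * (c * (x : G) * c⁻¹) = c * ((c⁻¹ * g * c) * (x : G)) * c⁻¹ := by group
    rw [e1, e2, hx]
  · have hx := x.2
    rw [Subgroup.mem_centralizer_singleton_iff] at hx ⊢
    have e1 : c⁻¹ * (x : G) * c * (c⁻¹ * g * c) = c⁻¹ * ((x : G) * g) * c := by group
    have e2 : (c⁻¹ * g * c) * (c⁻¹ * (x : G) * c) = c⁻¹ * (g * (x : G)) * c := by group
    rw [e1, e2, hx]
  · intro x
    apply Subtype.ext
    simp only
    group
  · intro x
    apply Subtype.ext
    simp only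
    group

variable {G : Type u} [Group G] [Finite G]

/-- Number-theoretic end game: `χ g = ± p ^ k` with `p ^ k ∣ |C_G(g)|`, and `|Q| ∣ χ g`
in the algebraic integers for every `p`-subgroup `Q` of `C_G(g)`, force `χ g = ± |C_G(g)|_p`. -/
theorem stv_final_arith (p : ℕ) [hp : Fact p.Prime] (χ : G → ℂ) (g : G)
    (hI : ∀ Q : Subgroup G, IsPGroup p Q → Q ≤ Subgroup.centralizer ({g} : Set G) →
      ∃ z : ℂ, IsIntegral ℤ z ∧ χ g = (Nat.card Q : ℂ) * z)
    (j k : ℕ) (hval : χ g = (-1 : ℂ) ^ j * ((p ^ k : ℕ) : ℂ))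
    (hk : p ^ k ∣ Nat.card ↥(Subgroup.centralizer ({g} : Set G))) :
    χ g = ((p ^ (Nat.card ↥(Subgroup.centralizer ({g} : Set G))).factorization p : ℕ) : ℂ) ∨
      χ g = -((p ^ (Nat.card ↥(Subgroup.centralizer ({g} : Set G))).factorization p : ℕ) : ℂ) := by
  classical
  set C : Subgroup G := Subgroup.centralizer ({g} : Set G) with hC
  set m := (Nat.card ↥C).factorization p with hm
  have hCpos : Nat.card ↥C ≠ 0 := Nat.card_pos.ne'
  have hkm : k ≤ m := (hp.out.pow_dvd_iff_le_factorization hCpos).mp hk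
  obtain ⟨Q0⟩ : Nonempty (Sylow p ↥C) := inferInstance
  set Q : Subgroup G := (Q0 : Subgroup ↥C).map C.subtype with hQ
  have hQcard : Nat.card Q = p ^ m := by
    rw [hQ, Nat.card_congr ((Q0 : Subgroup ↥C).equivMapOfInjective C.subtype
      C.subtype_injective).symm.toEquiv]
    exact Sylow.card_eq_multiplicity Q0
  have hQp : IsPGroup p Q := IsPGroup.of_card hQcard
  have hQc : Q ≤ C := by
    rw [hQ]
    exact Subgroup.map_subtype_le _
  obtain ⟨z, hz, hzeq⟩ := hI Q hQp hQc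
  rw [hQcard] at hzeq
  have hdvd : ((p ^ m : ℕ) : ℤ) ∣ (-1 : ℤ) ^ j * ((p ^ k : ℕ) : ℤ) := by
    apply int_dvd_of_isIntegral _ (p ^ m) (pow_pos hp.out.pos m).ne' z hz
    rw [← hzeq, hval]
    push_cast
    ring
  have hmk : m ≤ k := by
    have h1 : ((p ^ m : ℕ) : ℤ) ∣ ((p ^ k : ℕ) : ℤ) := by
      rcases Nat.even_or_odd j with he | ho
      · rwa [he.neg_one_pow, one_mul] at hdvd
      · rw [ho.neg_one_pow, neg_one_mul, dvd_neg] at hdvd
        exact hdvd
    have h2 : p ^ m ∣ p ^ k := by exact_mod_cast h1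
    exact (Nat.pow_dvd_pow_iff_le_right hp.out.one_lt).mp h2
  have hkm' : k = m := le_antisymm hkm hmk
  rw [hval, hkm']
  rcases Nat.even_or_odd j with he | ho
  · left
    rw [he.neg_one_pow, one_mul]
  · right
    rw [ho.neg_one_pow, neg_one_mul]

end Cfsg.Agent.StV
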