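import Mathlib
import Cfsg.Agent.Lead.SteinBNC

set_option autoImplicit false

/-!
Fixed points of an element on `G / P_K`, counted along the orbits of a parabolic subgroup `P_J`.
-/

namespace Cfsg.Agent.StV

open Cfsg Cfsg.Agent.Helper7.BN Cfsg.Agent.Helper7.InvWords Cfsg.Agent.Lead.CoxComb
  Cfsg.Agent.Lead.SteinBN MulAction

variable {G : Type*} [Group G] (P : Cfsg.BNPair G)

/-- The number of fixed points of `q` in the `P_J`-orbit of `ẇ P_K` on `G / P_K`. -/
noncomputable def stv_F (J K : Set G) (q : G) (m : W P) : ℕ :=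
  Nat.card {x : G ⧸ P.parabolic K //
    x ∈ orbit (P.parabolic J) ((rep P m : G) : G ⧸ P.parabolic K) ∧ q • x = x}

variable {J K : Set G}

/-- A point of the orbit, explicitly. -/
theorem stv_mem_orbit_iff {m : W P} {x : G} :
    ((x : G) : G ⧸ P.parabolic K) ∈ orbit (P.parabolic J) ((rep P m : G) : G ⧸ P.parabolic K) ↔
      ∃ u ∈ P.parabolic J, ∃ v ∈ P.parabolic K, x = u * rep P m * v := by
  rw [mem_orbit_iff]
  constructor
  · rintro ⟨u, hu⟩
    have h1 : (((u : G) * rep P m : G) : G ⧸ P.parabolic K) = (x : G) := hu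
    rw [QuotientGroup.eq] at h1
    refine ⟨u, u.2, _, h1, ?_⟩
    group
  · rintro ⟨u, hu, v, hv, rfl⟩
    refine ⟨⟨u, hu⟩, ?_⟩
    change (((u : G) * rep P m : G) : G ⧸ P.parabolic K) = ((u * rep P m * v : G))
    rw [QuotientGroup.eq]
    have : (u * rep P m)⁻¹ * (u * rep P m * v) = v := by group
    rw [this]
    exact hv

/-- The fixed points of `q` on `G / P_K`, counted along the orbits of `P_J`. -/
theorem stv_card_fixedBy_eq_sum [Finite G] (hJ : J ⊆ P.S) (hK : K ⊆ P.S) (q : G)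
    [Fintype (DD (RS P) (Rset P J) (Rset P K))] :
    Nat.card (fixedBy (G ⧸ P.parabolic K) q) =
      ∑ m : DD (RS P) (Rset P J) (Rset P K), stv_F P J K q m.1 := by
  unfold stv_F
  rw [← Nat.card_sigma]
  symm
  apply Nat.card_congr
  refine Equiv.ofBijective (fun z => ⟨z.2.1, z.2.2.2⟩) ⟨?_, ?_⟩
  · rintro ⟨⟨w, hw⟩, x, hx, hbx⟩ ⟨⟨w', hw'⟩, x', hx', hbx'⟩ h
    have hxx : x = x' := congrArg Subtype.val h
    subst hxx
    have hww : w = w' := by
      obtain ⟨c, hc⟩ := hx
      obtain ⟨c', hc'⟩ := hx'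
      have h1 : (((c : G) * rep P w : G) : G ⧸ P.parabolic K) = (((c' : G) * rep P w' : G)) := by
        rw [← hc'] at hc
        exact hc
      rw [QuotientGroup.eq] at h1
      apply eq_of_double P hJ hK hw hw' (p := (c' : G)⁻¹ * c)
        (p' := ((c : G) * rep P w)⁻¹ * ((c' : G) * rep P w'))
      · exact (P.parabolic J).mul_mem ((P.parabolic J).inv_mem c'.2) c.2
      · exact h1
      · group
    subst hww
    rfl
  · rintro ⟨x, hx⟩
    induction x using QuotientGroup.induction_on with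
    | H g =>
      obtain ⟨m, hm, p, hp, p', hp', he⟩ := exists_double P hJ hK g
      refine ⟨⟨⟨m, hm⟩, (g : G ⧸ P.parabolic K), ?_, hx⟩, rfl⟩
      rw [stv_mem_orbit_iff]
      exact ⟨p, hp, p', hp', he⟩

end Cfsg.Agent.StV
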