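import Mathlib
import Cfsg.Agent.Lead.SteinCharE
import Cfsg.Agent.StV.P4a

set_option autoImplicit false

/-!
The value of the alternating sum of parabolic permutation characters at an element of a
parabolic subgroup `P_J`, counted along the `P_J`-orbits: the sign sums over intervals.
-/

namespace Cfsg.Agent.StV

open Cfsg Cfsg.Agent.Helper7.BN Cfsg.Agent.Helper7.InvWords
  Cfsg.Agent.Lead.CoxComb Cfsg.Agent.Lead.SteinBN Cfsg.Agent.Lead.SteinChar MulAction

universe u

variable {G : Type u} [Group G] (P : Cfsg.BNPair G)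
variable {ι : Type*} [DecidableEq ι]

omit [DecidableEq ι] in
theorem stv_s_mem_N {I : Finset ι} {s : ι → G} (himg : s '' (I : Set ι) = P.S) {i : ι}
    (hi : i ∈ I) : s i ∈ P.N := by
  apply P.subset
  rw [← himg]
  exact ⟨i, hi, rfl⟩

/-- The images in the Weyl group of the distinguished generators are pairwise distinct. -/
theorem stv_rr_injOn {I : Finset ι} {s : ι → G} (himg : s '' (I : Set ι) = P.S)
    (hinj : Set.InjOn s (I : Set ι)) : Set.InjOn (rr P s) (I : Set ι) := by
  intro i hi i' hi' h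
  rw [rr_eq P (stv_s_mem_N P himg hi), rr_eq P (stv_s_mem_N P himg hi'), proj_eq_iff] at h
  apply hinj hi hi'
  exact P.inj (s i) (by rw [← himg]; exact ⟨i, hi, rfl⟩) (s i')
    (by rw [← himg]; exact ⟨i', hi', rfl⟩) h

open Classical in
/-- The generators `k ∈ I` with `r_j w = w r_k` for some `j ∈ J`: the set `w⁻¹ J w`. -/
noncomputable def stv_conjSet (I : Finset ι) (s : ι → G) (J : Finset ι) (w : W P) : Finset ι :=
  I.filter (fun k => ∃ j ∈ J, rr P s j * w = w * rr P s k)

/-- `w⁻¹ J w ⊆ K`, elementwise. -/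
def stv_into (s : ι → G) (J K : Finset ι) (w : W P) : Prop :=
  ∀ j ∈ J, ∃ k ∈ K, rr P s j * w = w * rr P s k

variable {I : Finset ι} {s : ι → G}

theorem stv_into_iff (himg : s '' (I : Set ι) = P.S) (hinj : Set.InjOn s (I : Set ι))
    {J K : Finset ι} (hK : K ⊆ I) (w : W P) :
    stv_into P s J K w ↔ stv_into P s J I w ∧ stv_conjSet P I s J w ⊆ K := by
  classical
  constructor
  · intro h
    refine ⟨fun j hj => ?_, fun k hk => ?_⟩
    · obtain ⟨k, hk, e⟩ := h j hj
      exact ⟨k, hK hk, e⟩
    · unfold stv_conjSet at hk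
      rw [Finset.mem_filter] at hk
      obtain ⟨hkI, j, hj, e⟩ := hk
      obtain ⟨k', hk', e'⟩ := h j hj
      have : rr P s k = rr P s k' := by
        have := e.symm.trans e'
        exact mul_left_cancel this
      have hkk : k = k' := stv_rr_injOn P himg hinj hkI (hK hk') this
      rw [hkk]
      exact hk'
  · rintro ⟨h1, h2⟩ j hj
    obtain ⟨k, hk, e⟩ := h1 j hj
    refine ⟨k, h2 ?_, e⟩
    unfold stv_conjSet
    rw [Finset.mem_filter]
    exact ⟨hk, j, hj, e⟩

theorem stv_card_conjSet (himg : s '' (I : Set ι) = P.S) (hinj : Set.InjOn s (I : Set ι))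
    {J : Finset ι} (hJ : J ⊆ I) {w : W P} (h : stv_into P s J I w) :
    (stv_conjSet P I s J w).card = J.card := by
  classical
  let φ : ι → ι := fun j => if hj : j ∈ J then (h j hj).choose else j
  have hφ : ∀ j (hj : j ∈ J), φ j ∈ I ∧ rr P s j * w = w * rr P s (φ j) := by
    intro j hj
    have := (h j hj).choose_spec
    simp only [φ, dif_pos hj]
    exact this
  have himage : stv_conjSet P I s J w = J.image φ := by
    ext k
    unfold stv_conjSet
    rw [Finset.mem_filter, Finset.mem_image]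
    constructor
    · rintro ⟨hkI, j, hj, e⟩
      refine ⟨j, hj, ?_⟩
      obtain ⟨h1, h2⟩ := hφ j hj
      have : rr P s (φ j) = rr P s k := mul_left_cancel (h2.symm.trans e)
      exact stv_rr_injOn P himg hinj h1 hkI this
    · rintro ⟨j, hj, rfl⟩
      obtain ⟨h1, h2⟩ := hφ j hj
      exact ⟨h1, j, hj, h2⟩
  rw [himage]
  apply Finset.card_image_of_injOn
  intro j hj j' hj' e
  obtain ⟨-, h2⟩ := hφ j hj
  obtain ⟨-, h2'⟩ := hφ j' hj'
  have e' : φ j = φ j' := e
  rw [e'] at h2
  have : rr P s j = rr P s j' := mul_right_cancel (h2.trans h2'.symm)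
  exact stv_rr_injOn P himg hinj (hJ hj) (hJ hj') this

open Classical in
/-- The alternating sum over an interval of the Boolean lattice. -/
theorem stv_interval_sum (I A B : Finset ι) (hB : B ⊆ I) :
    (∑ K ∈ I.powerset, (-1 : ℂ) ^ K.card * (if A ⊆ K ∧ K ⊆ B then 1 else 0)) =
      if A = B then (-1 : ℂ) ^ A.card else 0 := by
  simp only [mul_ite, mul_one, mul_zero]
  rw [← Finset.sum_filter]
  by_cases hAB : A ⊆ B
  · have hset : I.powerset.filter (fun K => A ⊆ K ∧ K ⊆ B) =
        (B \ A).powerset.image (fun K' => K' ∪ A) := by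
      ext K
      rw [Finset.mem_filter, Finset.mem_powerset, Finset.mem_image]
      constructor
      · rintro ⟨-, h1, h2⟩
        refine ⟨K \ A, ?_, ?_⟩
        · rw [Finset.mem_powerset]
          exact Finset.sdiff_subset_sdiff h2 (le_refl A)
        · exact Finset.sdiff_union_of_subset h1
      · rintro ⟨K', hK', rfl⟩
        rw [Finset.mem_powerset] at hK'
        refine ⟨?_, Finset.subset_union_right, ?_⟩
        · exact Finset.union_subset (hK'.trans (Finset.sdiff_subset.trans hB)) (hAB.trans hB)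
        · exact Finset.union_subset (hK'.trans Finset.sdiff_subset) hAB
    rw [hset, Finset.sum_image]
    · have hcard : ∀ K' ∈ (B \ A).powerset, (-1 : ℂ) ^ (K' ∪ A).card =
          (-1 : ℂ) ^ A.card * (-1 : ℂ) ^ K'.card := by
        intro K' hK'
        rw [Finset.mem_powerset] at hK'
        have hdisj : Disjoint K' A :=
          Finset.disjoint_of_subset_left hK' Finset.sdiff_disjoint
        rw [Finset.card_union_of_disjoint hdisj, pow_add, mul_comm]
      rw [Finset.sum_congr rfl hcard, ← Finset.mul_sum]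
      have h2 := Finset.sum_powerset_neg_one_pow_card (x := B \ A)
      have h3 : ((∑ m ∈ (B \ A).powerset, (-1 : ℤ) ^ m.card : ℤ) : ℂ) =
          ∑ K' ∈ (B \ A).powerset, (-1 : ℂ) ^ K'.card := by
        push_cast
        rfl
      rw [← h3, h2]
      by_cases hEq : A = B
      · rw [if_pos hEq, hEq, Finset.sdiff_self, if_pos rfl]
        simp
      · rw [if_neg hEq]
        have : B \ A ≠ ∅ := by
          intro h
          apply hEq
          exact Finset.Subset.antisymm hAB (Finset.sdiff_eq_empty_iff_subset.mp h)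
        rw [if_neg this]
        simp
    · intro K1 h1 K2 h2 e
      rw [Finset.mem_coe, Finset.mem_powerset] at h1 h2
      have d1 : Disjoint K1 A := Finset.disjoint_of_subset_left h1 Finset.sdiff_disjoint
      have d2 : Disjoint K2 A := Finset.disjoint_of_subset_left h2 Finset.sdiff_disjoint
      have e' : K1 ∪ A = K2 ∪ A := e
      calc K1 = (K1 ∪ A) \ A := (Finset.union_sdiff_cancel_right d1).symm
        _ = (K2 ∪ A) \ A := by rw [e']
        _ = K2 := Finset.union_sdiff_cancel_right d2
  · have hne : A ≠ B := fun h => hAB (h ▸ le_refl A)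
    rw [if_neg hne]
    apply Finset.sum_eq_zero
    intro K hK
    rw [Finset.mem_filter] at hK
    exact absurd (hK.2.1.trans hK.2.2) hAB

variable [Fintype G] {par : Finset ι → Subgroup G}

open Classical in
/-- The value of a parabolic permutation character, along the orbits of `P_J`. -/
theorem stv_fixedPointCharacter_par_apply [Fintype (W P)] (himg : s '' (I : Set ι) = P.S)
    (hpar : ∀ J, J ⊆ I → par J = P.parabolic (s '' (J : Set ι))) {J K : Finset ι} (hJ : J ⊆ I)
    (hK : K ⊆ I) (g : G) :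
    Cfsg.fixedPointCharacter (par K) g =
      ∑ w : W P, (if J ⊆ ascL P I s w ∧ K ⊆ ascR P I s w then
        (stv_F P (s '' (J : Set ι)) (s '' (K : Set ι)) g w : ℂ) else 0) := by
  have : Fintype (DD (RS P) (Rset P (s '' (J : Set ι))) (Rset P (s '' (K : Set ι)))) :=
    Fintype.ofFinite _
  unfold Cfsg.fixedPointCharacter
  rw [hpar K hK, stv_card_fixedBy_eq_sum P (image_subset_S P himg hJ) (image_subset_S P himg hK) g,
    Nat.cast_sum]
  rw [← Finset.sum_subtype (Finset.univ.filter
    (fun w : W P => w ∈ DD (RS P) (Rset P (s '' (J : Set ι))) (Rset P (s '' (K : Set ι)))))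
    (by intro x; simp)
    (fun w => (stv_F P (s '' (J : Set ι)) (s '' (K : Set ι)) g w : ℂ))]
  rw [Finset.sum_filter]
  apply Finset.sum_congr rfl
  intro w _
  have hiff := mem_DD_iff P himg hJ hK w
  by_cases h : J ⊆ ascL P I s w ∧ K ⊆ ascR P I s w
  · rw [if_pos h, if_pos (hiff.mpr h)]
  · rw [if_neg h, if_neg (fun h' => h (hiff.mp h'))]

open Classical in
/-- The alternating sum at `g`, along the orbits of `P_J`: only the elements `w` of the Weyl
group with `J ⊆ ascL w`, `w⁻¹ J w ⊆ I` and `ascR w = w⁻¹ J w` contribute. -/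
theorem stv_St_apply (himg : s '' (I : Set ι) = P.S)
    (hpar : ∀ J, J ⊆ I → par J = P.parabolic (s '' (J : Set ι)))
    (hinj : Set.InjOn s (I : Set ι)) {J : Finset ι} (hJ : J ⊆ I) (g : G)
    (h3 : ∀ K, K ⊆ I → ∀ m : W P, J ⊆ ascL P I s m → K ⊆ ascR P I s m →
      stv_F P (s '' (J : Set ι)) (s '' (K : Set ι)) g m ≠ 0 → stv_into P s J K m)
    (h4 : ∀ K, K ⊆ I → ∀ m : W P, J ⊆ ascL P I s m → K ⊆ ascR P I s m → stv_into P s J K m →
      stv_F P (s '' (J : Set ι)) (s '' (K : Set ι)) g m =
        stv_F P (s '' (J : Set ι)) (s '' ((stv_conjSet P I s J m : Finset ι) : Set ι)) g m) :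
    St I par g = (-1 : ℂ) ^ J.card *
      ∑ m : W P, (if J ⊆ ascL P I s m ∧ stv_into P s J I m ∧
          stv_conjSet P I s J m = ascR P I s m then
        (stv_F P (s '' (J : Set ι)) (s '' ((stv_conjSet P I s J m : Finset ι) : Set ι)) g m : ℂ)
        else 0) := by
  unfold St
  have h1 : ∀ K ∈ I.powerset, (-1 : ℂ) ^ K.card * Cfsg.fixedPointCharacter (par K) g =
      ∑ w : W P,
        (stv_F P (s '' (J : Set ι)) (s '' ((stv_conjSet P I s J w : Finset ι) : Set ι)) g w : ℂ) *
        ((-1 : ℂ) ^ K.card * (if J ⊆ ascL P I s w ∧ stv_into P s J I w ∧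
          (stv_conjSet P I s J w ⊆ K ∧ K ⊆ ascR P I s w) then (1 : ℂ) else 0)) := by
    intro K hK
    rw [Finset.mem_powerset] at hK
    rw [stv_fixedPointCharacter_par_apply P himg hpar hJ hK g, Finset.mul_sum]
    apply Finset.sum_congr rfl
    intro w _
    have hiff := stv_into_iff P himg hinj (J := J) hK w
    by_cases hc : J ⊆ ascL P I s w ∧ K ⊆ ascR P I s w
    · rw [if_pos hc]
      by_cases hin : stv_into P s J K w
      · have hin' := hiff.mp hin
        rw [if_pos ⟨hc.1, hin'.1, hin'.2, hc.2⟩, h4 K hK w hc.1 hc.2 hin]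
        ring
      · have hz : stv_F P (s '' (J : Set ι)) (s '' (K : Set ι)) g w = 0 := by
          by_contra hne
          exact hin (h3 K hK w hc.1 hc.2 hne)
        rw [hz, if_neg]
        · simp
        · rintro ⟨-, h5, h6, -⟩
          exact hin (hiff.mpr ⟨h5, h6⟩)
    · rw [if_neg hc, if_neg]
      · simp
      · rintro ⟨h5, -, -, h6⟩
        exact hc ⟨h5, h6⟩
  rw [Finset.sum_congr rfl h1, Finset.sum_comm]
  simp_rw [← Finset.mul_sum]
  have h2 : ∀ w : W P,
      (∑ K ∈ I.powerset, ((-1 : ℂ) ^ K.card * (if J ⊆ ascL P I s w ∧ stv_into P s J I w ∧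
          (stv_conjSet P I s J w ⊆ K ∧ K ⊆ ascR P I s w) then (1 : ℂ) else 0))) =
        if J ⊆ ascL P I s w ∧ stv_into P s J I w ∧ stv_conjSet P I s J w = ascR P I s w then
          (-1 : ℂ) ^ J.card else 0 := by
    intro w
    by_cases hc : J ⊆ ascL P I s w ∧ stv_into P s J I w
    · have e : ∀ K ∈ I.powerset, ((-1 : ℂ) ^ K.card * (if J ⊆ ascL P I s w ∧ stv_into P s J I w ∧
          (stv_conjSet P I s J w ⊆ K ∧ K ⊆ ascR P I s w) then (1 : ℂ) else 0)) =
          (-1 : ℂ) ^ K.card *
            (if stv_conjSet P I s J w ⊆ K ∧ K ⊆ ascR P I s w then (1 : ℂ) else 0) := by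
        intro K _
        congr 1
        by_cases h5 : stv_conjSet P I s J w ⊆ K ∧ K ⊆ ascR P I s w
        · rw [if_pos h5, if_pos ⟨hc.1, hc.2, h5⟩]
        · rw [if_neg h5, if_neg]
          rintro ⟨-, -, h6⟩
          exact h5 h6
      rw [Finset.sum_congr rfl e, stv_interval_sum I _ _ (ascR_subset P w)]
      by_cases h5 : stv_conjSet P I s J w = ascR P I s w
      · rw [if_pos h5, if_pos ⟨hc.1, hc.2, h5⟩, stv_card_conjSet P himg hinj hJ hc.2]
      · rw [if_neg h5, if_neg]
        rintro ⟨-, -, h6⟩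
        exact h5 h6
    · rw [if_neg]
      · apply Finset.sum_eq_zero
        intro K _
        rw [if_neg, mul_zero]
        rintro ⟨h5, h6, -⟩
        exact hc ⟨h5, h6⟩
      · rintro ⟨h5, h6, -⟩
        exact hc ⟨h5, h6⟩
  simp_rw [h2]
  rw [Finset.mul_sum]
  apply Finset.sum_congr rfl
  intro w _
  split_ifs <;> ring

end Cfsg.Agent.StV
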