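import Mathlib
import Cfsg.Agent.StV.P4b

set_option autoImplicit false

/-!
S2312, package P5 (share of helper2): the group-theoretic frame of `stv_chev`.

* `stv5_closing`: if `V` is a normal subgroup of `PJ = closure S` and every generator in `S` lies in
  `V` or fixes the point `x₀`, then `V` is transitive on the `PJ`-orbit of `x₀`:
  `∀ a ∈ PJ, ∃ v ∈ V, a • x₀ = v • x₀`;
* `stv5_T_fix` (C1): the elements of `B ⊓ N` fix the point `(rep P w) P_K` of `G ⧸ P_K`;
* `stv5_N_fix`, `stv5_s_fix` (C2): an element `n ∈ N` with `n̄ w = w n̄'`, `n' ∈ N ∩ P_K`, fixes that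
  point; in particular `s j` does when `r_j w = w r_k` with `k ∈ K`.
-/

namespace Cfsg.Agent.StV

open Cfsg Cfsg.Agent.Helper7.BN Cfsg.Agent.Helper7.InvWords
  Cfsg.Agent.Lead.CoxComb Cfsg.Agent.Lead.SteinBN Cfsg.Agent.Lead.SteinChar MulAction

universe u

section generic

variable {G : Type*} [Group G] {X : Type*} [MulAction G X]

/-- A normal subgroup `V` of `PJ` is transitive on the `PJ`-orbit of `x₀` as soon as every generator
of `PJ` lies in `V` or fixes `x₀`. -/
theorem stv5_closing (V PJ : Subgroup G) (hN : PJ ≤ Subgroup.normalizer (V : Set G))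
    (S : Set G) (hS : PJ = Subgroup.closure S) (x₀ : X)
    (hgen : ∀ g ∈ S, g ∈ V ∨ g • x₀ = x₀) :
    ∀ a ∈ PJ, ∃ v ∈ V, a • x₀ = v • x₀ := by
  -- the subgroup of the good elements
  let T : Subgroup G :=
    { carrier := {a | a ∈ PJ ∧ ∃ v ∈ V, a • x₀ = v • x₀}
      mul_mem' := by
        rintro a b ⟨ha, v, hv, hav⟩ ⟨hb, v', hv', hbv⟩
        refine ⟨PJ.mul_mem ha hb, a * v' * a⁻¹ * v, ?_, ?_⟩
        · refine V.mul_mem ?_ hv
          have := hN ha
          rw [Subgroup.mem_normalizer_iff] at this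
          exact (this v').1 hv'
        · rw [mul_smul, hbv, mul_smul, ← hav, ← mul_smul, ← mul_smul]
          congr 1
          group
      one_mem' := ⟨PJ.one_mem, 1, V.one_mem, rfl⟩
      inv_mem' := by
        rintro a ⟨ha, v, hv, hav⟩
        refine ⟨PJ.inv_mem ha, a⁻¹ * v⁻¹ * a, ?_, ?_⟩
        · have := hN (PJ.inv_mem ha)
          rw [Subgroup.mem_normalizer_iff] at this
          have h2 := (this v⁻¹).1 (V.inv_mem hv)
          simpa using h2
        · have e : (a⁻¹ * v⁻¹ * a) • x₀ = (a⁻¹ * v⁻¹) • (a • x₀) := by rw [← mul_smul]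
          rw [e, hav, ← mul_smul]
          congr 1
          group }
  have hle : PJ ≤ T := by
    rw [hS, Subgroup.closure_le]
    intro g hg
    have hgP : g ∈ PJ := by rw [hS]; exact Subgroup.subset_closure hg
    rcases hgen g hg with h | h
    · exact ⟨hgP, g, h, rfl⟩
    · exact ⟨hgP, 1, V.one_mem, by rw [h, one_smul]⟩
  intro a ha
  exact (hle ha).2

end generic

section bn

variable {G : Type u} [Group G] (P : Cfsg.BNPair G)

theorem stv5_rep_mem_N (w : W P) : rep P w ∈ P.N := (Quotient.out w : P.N).2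

theorem stv5_proj_rep (w : W P) : proj P ⟨rep P w, stv5_rep_mem_N P w⟩ = w := by
  have : (⟨rep P w, stv5_rep_mem_N P w⟩ : P.N) = Quotient.out w := Subtype.ext rfl
  rw [this]
  exact Quotient.out_eq w

/-- (C1) The elements of `B ⊓ N` fix the point `(rep P w) P_K`. -/
theorem stv5_T_fix (K : Set G) (w : W P) {b : G} (hb : b ∈ P.B ⊓ P.N) :
    b • ((rep P w : G) : G ⧸ P.parabolic K) = ((rep P w : G) : G ⧸ P.parabolic K) := by
  change (((b * rep P w : G)) : G ⧸ P.parabolic K) = _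
  rw [QuotientGroup.eq]
  have h := conj_mem_T' P (stv5_rep_mem_N P w) hb
  have h2 : (b * rep P w)⁻¹ * rep P w = ((rep P w)⁻¹ * b * rep P w)⁻¹ := by group
  rw [h2]
  exact (P.parabolic K).inv_mem (B_le_parabolic P K h.1)

/-- (C2) An element `n ∈ N` whose image satisfies `n̄ w = w n̄'` with `n' ∈ N ∩ P_K` fixes the point
`(rep P w) P_K`. -/
theorem stv5_N_fix (K : Set G) (w : W P) {n n' : G} (hn : n ∈ P.N) (hn' : n' ∈ P.N)
    (hrel : proj P ⟨n, hn⟩ * w = w * proj P ⟨n', hn'⟩) (hK : n' ∈ P.parabolic K) :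
    n • ((rep P w : G) : G ⧸ P.parabolic K) = ((rep P w : G) : G ⧸ P.parabolic K) := by
  change (((n * rep P w : G)) : G ⧸ P.parabolic K) = _
  rw [QuotientGroup.eq]
  -- `(rep w)⁻¹ n (rep w)` and `n'` have the same image in `W`
  have hr := stv5_rep_mem_N P w
  have hc : (rep P w)⁻¹ * n * rep P w ∈ P.N := P.N.mul_mem (P.N.mul_mem (P.N.inv_mem hr) hn) hr
  have himg : proj P ⟨(rep P w)⁻¹ * n * rep P w, hc⟩ = proj P ⟨n', hn'⟩ := by
    have e : (⟨(rep P w)⁻¹ * n * rep P w, hc⟩ : P.N) =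
        (⟨rep P w, hr⟩ : P.N)⁻¹ * ⟨n, hn⟩ * ⟨rep P w, hr⟩ := Subtype.ext rfl
    rw [e, map_mul, map_mul, map_inv, stv5_proj_rep, mul_assoc, hrel, ← mul_assoc, inv_mul_cancel,
      one_mul]
  rw [proj_eq_iff] at himg
  -- so `(rep w)⁻¹ n (rep w) ∈ n' B ⊆ P_K`
  have h1 : (rep P w)⁻¹ * n * rep P w ∈ P.parabolic K := by
    have e : (rep P w)⁻¹ * n * rep P w =
        n' * (((rep P w)⁻¹ * n * rep P w)⁻¹ * n')⁻¹ := by group
    rw [e]
    exact (P.parabolic K).mul_mem hK ((P.parabolic K).inv_mem (B_le_parabolic P K himg))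
  have h2 : (n * rep P w)⁻¹ * rep P w = ((rep P w)⁻¹ * n * rep P w)⁻¹ := by group
  rw [h2]
  exact (P.parabolic K).inv_mem h1

variable {ι : Type*} [DecidableEq ι]

/-- (C2) in the vocabulary of `stv_into`: if `r_j w = w r_k` with `k ∈ K`, then `s j` fixes the
point `(rep P w) P_K`. -/
theorem stv5_s_fix (s : ι → G) (K : Finset ι) (w : W P) {j k : ι} (hj : s j ∈ P.N)
    (hk : s k ∈ P.N) (hkK : k ∈ K) (hrel : rr P s j * w = w * rr P s k) :
    s j • ((rep P w : G) : G ⧸ P.parabolic (s '' (K : Set ι))) =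
      ((rep P w : G) : G ⧸ P.parabolic (s '' (K : Set ι))) := by
  rw [rr_eq P hj, rr_eq P hk] at hrel
  exact stv5_N_fix P _ w hj hk hrel (mem_parabolic_of_mem P ⟨k, hkK, rfl⟩)

/-- (C2) for all `j ∈ J` at once, from `stv_into`. -/
theorem stv5_s_fix_of_into {I : Finset ι} {s : ι → G} (himg : s '' (I : Set ι) = P.S)
    {J K : Finset ι} (hJ : J ⊆ I) (hK : K ⊆ I) (w : W P) (hinto : stv_into P s J K w)
    {j : ι} (hj : j ∈ J) :
    s j • ((rep P w : G) : G ⧸ P.parabolic (s '' (K : Set ι))) =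
      ((rep P w : G) : G ⧸ P.parabolic (s '' (K : Set ι))) := by
  obtain ⟨k, hk, hrel⟩ := hinto j hj
  exact stv5_s_fix P s K w (stv_s_mem_N P himg (hJ hj)) (stv_s_mem_N P himg (hK hk)) hk hrel

end bn

end Cfsg.Agent.StV
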