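import Mathlib
import Cfsg.Agent.Helper7.ChevBN
import Cfsg.Agent.Helper7.ChevLevi1

set_option autoImplicit false
set_option linter.unusedSectionVars false
set_option linter.unusedVariables false

/-!
S2312, package P5 (part A): the action of a word of fundamental reflections on the roots is linear
in the coroot coordinates; a word mapping the fundamental roots of `J` to positive roots maps all
the positive roots of `Φ_J` to positive roots.
-/

namespace Cfsg.Agent.StV

open Cfsg Cfsg.Lie Matrix Cfsg.Agent.Helper7.Chev

variable {D : ChevalleyDatum} {F : Type*} [Field F]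

section roots

variable (hG : Good2 D)

include hG in
/-- One fundamental reflection acts linearly on the coroot coordinates. -/
theorem stv_cr_refl_eq_sum {i : ℕ} (hi : i < D.rank) {s : ℕ} (hs : s < D.nroots) {k : ℕ}
    (hk : k < D.rank) :
    cr D ((tabOf D).refl (D.simple i) s) k =
      ∑ m ∈ Finset.range D.rank, cr D s m *
        ((if m = k then 1 else 0) - (if k = i then D.cartan m (D.simple i) else 0)) := by
  rw [hG.cr_refl hi hs hk, pairing_eq_sum]
  simp only [mul_sub, Finset.sum_sub_distrib]
  congr 1
  · rw [Finset.sum_eq_single k]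
    · rw [if_pos rfl, mul_one]
    · intro b _ hb
      rw [if_neg hb, mul_zero]
    · intro h
      exact absurd (Finset.mem_range.mpr hk) h
  · by_cases hki : k = i
    · simp only [if_pos hki]
      exact (Finset.sum_range (fun m => cr D s m * D.cartan m (D.simple i))).symm
    · simp only [if_neg hki, mul_zero, Finset.sum_const_zero]

include hG in
/-- The action of a word on the roots is linear in the coroot coordinates. -/
theorem stv_cr_reflWord {u : List ℕ} (hu : ∀ i ∈ u, i < D.rank) {r : ℕ} (hr : r < D.nroots)
    {k : ℕ} (hk : k < D.rank) :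
    cr D ((tabOf D).reflWord u r) k =
      ∑ j ∈ Finset.range D.rank, cr D r j * cr D ((tabOf D).reflWord u (D.simple j)) k := by
  have hG1 := hG.toGood1
  induction u generalizing k with
  | nil =>
    change cr D r k = ∑ j ∈ Finset.range D.rank, cr D r j * cr D (D.simple j) k
    rw [Finset.sum_eq_single k]
    · rw [hG1.cr_simple hk hk, if_pos rfl, mul_one]
    · intro b hb hbk
      rw [hG1.cr_simple (Finset.mem_range.mp hb) hk, if_neg (fun h => hbk h.symm), mul_zero]
    · intro h
      exact absurd (Finset.mem_range.mpr hk) h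
  | cons i u ih =>
    have hi : i < D.rank := hu i List.mem_cons_self
    have hu' : ∀ j ∈ u, j < D.rank := fun j hj => hu j (List.mem_cons_of_mem _ hj)
    have hlt : ∀ {s : ℕ}, s < D.nroots → (tabOf D).reflWord u s < D.nroots :=
      fun hs => reflWord_lt hG hu' hs
    simp only [reflWord_cons]
    change cr D ((tabOf D).refl (D.simple i) ((tabOf D).reflWord u r)) k = _
    rw [stv_cr_refl_eq_sum hG hi (hlt hr) hk]
    have e2 : ∑ j ∈ Finset.range D.rank,
        cr D r j * cr D ((tabOf D).refl (D.simple i)
          ((tabOf D).reflWord u (D.simple j))) k =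
        ∑ j ∈ Finset.range D.rank,
        cr D r j * ∑ m ∈ Finset.range D.rank, cr D ((tabOf D).reflWord u (D.simple j)) m *
        ((if m = k then 1 else 0) - (if k = i then D.cartan m (D.simple i) else 0)) := by
      apply Finset.sum_congr rfl
      intro j hj
      have hj' := Finset.mem_range.mp hj
      rw [stv_cr_refl_eq_sum hG hi (hlt (hG1.simple_lt hj')) hk]
    refine Eq.trans ?_ e2.symm
    have e1 : ∀ m ∈ Finset.range D.rank,
        cr D ((tabOf D).reflWord u r) m *
          ((if m = k then 1 else 0) - (if k = i then D.cartan m (D.simple i) else 0)) =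
        ∑ j ∈ Finset.range D.rank, cr D r j * (cr D ((tabOf D).reflWord u (D.simple j)) m *
          ((if m = k then 1 else 0) - (if k = i then D.cartan m (D.simple i) else 0))) := by
      intro m hm
      rw [ih hu' (Finset.mem_range.mp hm), Finset.sum_mul]
      apply Finset.sum_congr rfl
      intro j _
      ring
    rw [Finset.sum_congr rfl e1, Finset.sum_comm]
    apply Finset.sum_congr rfl
    intro j _
    rw [Finset.mul_sum]

theorem stv_getD_nonneg (a : Array ℤ) (h : ∀ c ∈ a.toList, 0 ≤ c) (i : ℕ) : 0 ≤ a.getD i 0 := by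
  by_cases hi : i < a.size
  · rw [Array.getD_eq_getD_getElem?, Array.getElem?_eq_getElem hi]
    exact h _ (by simp)
  · rw [Array.getD_eq_getD_getElem?, Array.getElem?_eq_none (by omega)]
    simp

theorem stv_getD_nonpos (a : Array ℤ) (h : ∀ c ∈ a.toList, c ≤ 0) (i : ℕ) : a.getD i 0 ≤ 0 := by
  by_cases hi : i < a.size
  · rw [Array.getD_eq_getD_getElem?, Array.getElem?_eq_getElem hi]
    exact h _ (by simp)
  · rw [Array.getD_eq_getD_getElem?, Array.getElem?_eq_none (by omega)]
    simp

theorem stv_cr_nonneg {r : ℕ} (hr : D.IsPosRoot r) (i : ℕ) : 0 ≤ cr D r i :=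
  stv_getD_nonneg _ hr.2 i

theorem stv_cr_nonpos {r : ℕ} (hr : D.IsNegRoot r) (i : ℕ) : cr D r i ≤ 0 :=
  stv_getD_nonpos _ hr.2 i

include hG in
/-- A word mapping the fundamental roots of `J` to positive roots maps the positive roots of `Φ_J`
to positive roots. -/
theorem stv_reflWord_pos (hT : T0 D) {J : Set ℕ} {u : List ℕ} (hu : ∀ i ∈ u, i < D.rank)
    (hpos : ∀ j ∈ J, j < D.rank → D.nroots / 2 ≤ (tabOf D).reflWord u (D.simple j))
    {r : ℕ} (hr : D.IsPosRoot r) (hrJ : D.InRootSub J r) :
    D.nroots / 2 ≤ (tabOf D).reflWord u r := by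
  have hG1 := hG.toGood1
  have hrl := hr.1
  have hsl := reflWord_lt hG hu hrl
  by_contra hneg
  have hN : D.IsNegRoot ((tabOf D).reflWord u r) := (isNegRoot_iff hT hsl).mpr (by omega)
  have hz : ∀ k < D.rank, cr D ((tabOf D).reflWord u r) k = 0 := by
    intro k hk
    apply le_antisymm (stv_cr_nonpos hN k)
    rw [stv_cr_reflWord hG hu hrl hk]
    apply Finset.sum_nonneg
    intro j hj
    have hj' := Finset.mem_range.mp hj
    by_cases hjJ : j ∈ J
    · apply mul_nonneg (stv_cr_nonneg hr j)
      apply stv_cr_nonneg
      exact (isPosRoot_iff hT (reflWord_lt hG hu (hG1.simple_lt hj'))).mpr (hpos j hjJ hj')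
    · have : cr D r j = 0 := hrJ.2 j hj' hjJ
      rw [this, zero_mul]
  have h2 := hG1.pairing_self hsl
  rw [pairing_eq_sum] at h2
  rw [Finset.sum_eq_zero] at h2
  · norm_num at h2
  · intro k _
    rw [hz k.val k.2, zero_mul]

end roots

end Cfsg.Agent.StV
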