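import Mathlib
import Cfsg.Agent.StV.RootA

set_option autoImplicit false
set_option linter.unusedSectionVars false
set_option linter.unusedVariables false

/-!
S2312, package P5 (part B): `B = U_J · (B ∩ n B n⁻¹)` for `n` the element of `N` of a word mapping
(by its inverse) the fundamental roots of `J` to positive roots.  (GL-level statements.)
-/

namespace Cfsg.Agent.StV

open Cfsg Cfsg.Lie Matrix Cfsg.Agent.Helper7.Chev
open scoped Pointwise

variable {D : ChevalleyDatum} {F : Type*} [Field F]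

section

variable (hG : Good2 D) (hT : T0 D) (h3 : (tabOf D).T3) (h4 : (tabOf D).T4 60)
  (h6 : (tabOf D).T6) (h14 : (tabOf D).T14)

/-- The elements of `B` which `n⁻¹` conjugates into `B`. -/
def stv_BnB (D : ChevalleyDatum) (F : Type*) [Field F] (n : GL D.Idx F) : Subgroup (GL D.Idx F) where
  carrier := {y | y ∈ D.borelSubgroup F ∧ n⁻¹ * y * n ∈ D.borelSubgroup F}
  one_mem' := ⟨one_mem _, by simp [one_mem]⟩
  mul_mem' := by
    rintro a b ⟨ha, ha'⟩ ⟨hb, hb'⟩
    refine ⟨mul_mem ha hb, ?_⟩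
    have e : n⁻¹ * (a * b) * n = (n⁻¹ * a * n) * (n⁻¹ * b * n) := by group
    rw [e]
    exact mul_mem ha' hb'
  inv_mem' := by
    rintro a ⟨ha, ha'⟩
    refine ⟨inv_mem ha, ?_⟩
    have e : n⁻¹ * a⁻¹ * n = (n⁻¹ * a * n)⁻¹ := by group
    rw [e]
    exact inv_mem ha'

theorem stv_mem_BnB {n y : GL D.Idx F} :
    y ∈ stv_BnB D F n ↔ y ∈ D.borelSubgroup F ∧ n⁻¹ * y * n ∈ D.borelSubgroup F := Iff.rfl

include hG hT h3 h4 h6 h14 in
/-- `B ≤ U_J ⊔ (B ∩ n B n⁻¹)`. -/
theorem stv_borel_le_sup (J : Set ℕ) {u : List ℕ} (hu : ∀ i ∈ u, i < D.rank)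
    (hpos : ∀ j ∈ J, j < D.rank → D.nroots / 2 ≤ (tabOf D).reflWord u.reverse (D.simple j)) :
    D.borelSubgroup F ≤ D.unipotentRadical F J ⊔ stv_BnB D F (nWordGL hG u) := by
  classical
  have hG1 := hG.toGood1
  have hUB : D.posUnipotent F ≤ D.borelSubgroup F := le_sup_left
  have hHB : D.diagonalSubgroup F ≤ D.borelSubgroup F := le_sup_right
  have hrev : ∀ i ∈ u.reverse, i < D.rank := fun i hi => hu i (List.mem_reverse.mp hi)
  unfold ChevalleyDatum.borelSubgroup
  refine sup_le ?_ ?_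
  · unfold ChevalleyDatum.posUnipotent
    rw [Subgroup.closure_le]
    rintro g ⟨r, t, hrpos, hg⟩
    have hr := hrpos.1
    have hg' : g = xGL hG1 hr t := eq_xGL hG1 hr hg
    by_cases hrJ : D.InRootSub J r
    · apply Subgroup.mem_sup_right
      refine ⟨hUB (Subgroup.subset_closure ⟨r, t, hrpos, hg⟩), ?_⟩
      rw [hg']
      obtain ⟨hr', t', e⟩ := nWordGL_inv_conj (F := F) hG hu hr t
      rw [e]
      apply hUB
      apply Subgroup.subset_closure
      refine ⟨_, t', ?_, xGL_coe hG1 hr' t'⟩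
      rw [isPosRoot_iff hT hr']
      exact stv_reflWord_pos hG hT hrev hpos hrpos hrJ
    · apply Subgroup.mem_sup_left
      apply Subgroup.subset_closure
      exact ⟨r, t, hrpos, hrJ, hg⟩
  · intro h hh
    apply Subgroup.mem_sup_right
    exact ⟨hHB hh, hHB (conj_mem_diagonal' (nWordGL_mem_normalizer hG u) hh)⟩

include hG hT h3 h4 h6 h14 in
/-- `B = U_J · (B ∩ n B n⁻¹)`, elementwise. -/
theorem stv_borel_decomp (J : Set ℕ) {u : List ℕ} (hu : ∀ i ∈ u, i < D.rank)
    (hpos : ∀ j ∈ J, j < D.rank → D.nroots / 2 ≤ (tabOf D).reflWord u.reverse (D.simple j))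
    {b : GL D.Idx F} (hb : b ∈ D.borelSubgroup F) :
    ∃ v ∈ D.unipotentRadical F J, ∃ y ∈ D.borelSubgroup F,
      (nWordGL hG u)⁻¹ * y * nWordGL hG u ∈ D.borelSubgroup F ∧ b = v * y := by
  have hle : stv_BnB D F (nWordGL hG u) ≤
      Subgroup.normalizer (D.unipotentRadical F J : Set (GL D.Idx F)) := by
    intro y hy
    apply parabolic_le_normalizer_rad hG hT h3 h4 h6 h14 J
    exact Subgroup.mem_sup_left hy.1
  have hmul := Subgroup.coe_mul_of_right_le_normalizer_left (D.unipotentRadical F J)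
    (stv_BnB D F (nWordGL hG u)) hle
  have hmem : b ∈ ((D.unipotentRadical F J ⊔ stv_BnB D F (nWordGL hG u) :
      Subgroup (GL D.Idx F)) : Set (GL D.Idx F)) :=
    stv_borel_le_sup hG hT h3 h4 h6 h14 J hu hpos hb
  rw [hmul] at hmem
  obtain ⟨v, hv, y, hy, rfl⟩ := hmem
  exact ⟨v, hv, y, hy.1, hy.2, rfl⟩

end

end Cfsg.Agent.StV
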