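import Mathlib
import Cfsg.Agent.StV.RootB
import Cfsg.Agent.Lead.SteinChevB

set_option autoImplicit false
set_option linter.unusedSectionVars false
set_option linter.unusedVariables false

/-!
S2312, package P5 (part C): in the `(B, N)`-pair of a Chevalley group, `B = U_J · (B ∩ n B n⁻¹)`
for every `n ∈ N` whose image in the Weyl group has all the elements of `J` as left ascents.
-/

namespace Cfsg.Agent.StV

open Cfsg Cfsg.Lie Matrix DoubleCoset Cfsg.Agent.Helper7.Chev Cfsg.Agent.Helper7.BN
  Cfsg.Agent.Helper7.InvWords Cfsg.Agent.Lead.SteinChar Cfsg.Agent.Lead.SteinBN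
  Cfsg.Agent.Lead.SteinChev
open scoped Pointwise

variable {D : ChevalleyDatum} {F : Type*} [Field F]

section pair

variable (hG : Good2 D) (hT : T0 D) (h3 : (tabOf D).T3) (h4 : (tabOf D).T4 60) (h5 : (tabOf D).T5)
  (h6 : (tabOf D).T6)

include hT h3 h4 h5 h6 in
/-- A left ascent of the image of `h n_u` gives a positive root `u⁻¹ α_i`. -/
theorem stv_pos_of_ascent (P : Cfsg.BNPair ↥(D.group F))
    (hPB : P.B = (D.borelSubgroup F).subgroupOf (D.group F)) {u : List ℕ}
    (hu : ∀ j ∈ u, j < D.rank) {i : ℕ} (hi : i < D.rank) (a n : P.N)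
    (ha : (((a : P.N) : ↥(D.group F)) : GL D.Idx F) = nGL hG.toGood1 (hG.toGood1.simple_lt hi))
    {h : GL D.Idx F} (hh : h ∈ D.diagonalSubgroup F)
    (hn : (((n : P.N) : ↥(D.group F)) : GL D.Idx F) = h * nWordGL hG u)
    (hr : proj P a ∈ RS P)
    (hasc : len (RS P) (proj P n) < len (RS P) (proj P a * proj P n)) :
    D.nroots / 2 ≤ (tabOf D).reflWord u.reverse (D.simple i) := by
  have hG1 := hG.toGood1
  have hBG : D.borelSubgroup F ≤ D.group F := borelSubgroup_le_group hG1
  have hp := hG1.simple_lt hi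
  have hrev : ∀ j ∈ u.reverse, j < D.rank := fun j hj => hu j (List.mem_reverse.mp hj)
  by_contra hneg
  have hql := reflWord_lt hG hrev hp
  have hq : (tabOf D).reflWord u.reverse (D.simple i) < D.nroots / 2 := by omega
  have hw' : ∀ j ∈ i :: u, j < D.rank := by
    intro j hj
    rcases List.mem_cons.mp hj with rfl | hj
    · exact hi
    · exact hu j hj
  have hpos : D.nroots / 2 ≤ (tabOf D).reflWord (i :: u).reverse (D.simple i) := by
    rw [List.reverse_cons, reflWord_append, reflWord_cons]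
    change D.nroots / 2 ≤ (tabOf D).reflWord u.reverse
      ((tabOf D).refl (D.simple i) (D.simple i))
    rw [refl_self, reflWord_neg hG hrev hp]
    exact neg_pos_of_neg hG hT hql hq
  -- the element `n_i h n_i⁻¹` of `H`
  set ni : GL D.Idx F := nGL hG1 hp with hni
  have hniN : ni ∈ Subgroup.normalizer (D.diagonalSubgroup F : Set (GL D.Idx F)) :=
    monomialSubgroup_le_normalizer hG (nGL_mem_monomial hG hp)
  have hh' : ni * h * ni⁻¹ ∈ D.diagonalSubgroup F := conj_mem_diagonal hniN hh
  have hgood : Good P (proj P a) (proj P (a * n)) := by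
    apply good_of_rep
    intro b hb
    rw [hPB, Subgroup.mem_subgroupOf] at hb
    have key := mul_mem_doubleCoset_of_pos (F := F) hG hT h3 h4 h5 h6 hi hh' hw' hpos hb
    rw [nWordGL_cons hG hi] at key
    have e1 : ni * h * ni⁻¹ * (ni * nWordGL hG u) = ni * (h * nWordGL hG u) := by group
    rw [e1] at key
    obtain ⟨b₁, hb₁, b₂, hb₂, e⟩ := mem_doubleCoset.mp key
    refine (mem_C P).mpr ⟨⟨b₁, hBG hb₁⟩, ?_, ⟨b₂, hBG hb₂⟩, ?_, ?_⟩
    · rw [hPB, Subgroup.mem_subgroupOf]; exact hb₁
    · rw [hPB, Subgroup.mem_subgroupOf]; exact hb₂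
    · apply Subtype.ext
      simp only [Subgroup.coe_mul]
      rw [ha, hn]
      exact e
  have h1 := (good_iff P hr).mp hgood
  rw [map_mul, ← mul_assoc, RS_mul_self P hr, one_mul] at h1
  omega

end pair

end Cfsg.Agent.StV
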