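import Mathlib
import Cfsg.Agent.StV.RootC
import Cfsg.Agent.Helper7.ChevT14
import Cfsg.Agent.Helper7.ChevUnique

set_option autoImplicit false
set_option linter.unusedSectionVars false
set_option linter.unusedVariables false

/-!
S2312, package P5 (final statements, for the seven types): in the `(B, N)`-pair of a Chevalley group
 * `U_J` is a `p`-subgroup of `B` normalised by `P_J`;
 * `B = U_J · (B ∩ n B n⁻¹)` for every `n ∈ N` whose image in the Weyl group has all the elements of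
   `J` as left ascents.
-/

namespace Cfsg.Agent.StV

open Cfsg Cfsg.Lie Matrix DoubleCoset Cfsg.Agent.Helper7.Chev Cfsg.Agent.Helper7.BN
  Cfsg.Agent.Helper7.InvWords Cfsg.Agent.Lead.SteinChar Cfsg.Agent.Lead.SteinBN
  Cfsg.Agent.Lead.SteinChev
open scoped Pointwise

universe u

/-- The unipotent radical `U_J`, as a subgroup of the Chevalley group. -/
def stv_UJ (D : ChevalleyDatum) (F : Type*) [Field F] (J : Finset ℕ) : Subgroup ↥(D.group F) :=
  (D.unipotentRadical F (↑J : Set ℕ)).subgroupOf (D.group F)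

theorem stv_mem_UJ {D : ChevalleyDatum} {F : Type*} [Field F] {J : Finset ℕ} {v : ↥(D.group F)} :
    v ∈ stv_UJ D F J ↔ (v : GL D.Idx F) ∈ D.unipotentRadical F (↑J : Set ℕ) :=
  Subgroup.mem_subgroupOf

/-- `U_J ≤ B`. -/
theorem stv_UJ_le_borel {F : Type*} [Field F] (D : ChevalleyDatum) (J : Finset ℕ) :
    stv_UJ D F J ≤ (D.borelSubgroup F).subgroupOf (D.group F) := by
  intro v hv
  rw [stv_mem_UJ] at hv
  rw [Subgroup.mem_subgroupOf]
  have hVU : D.unipotentRadical F (↑J : Set ℕ) ≤ D.posUnipotent F := by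
    unfold ChevalleyDatum.unipotentRadical ChevalleyDatum.posUnipotent
    apply Subgroup.closure_mono
    rintro g ⟨r, t, hr, _, hg⟩
    exact ⟨r, t, hr, hg⟩
  exact (le_sup_left : D.posUnipotent F ≤ D.borelSubgroup F) (hVU hv)

/-- `P_J` normalises `U_J`. -/
theorem stv_UJ_normal {F : Type*} [Field F] (D : ChevalleyDatum)
    (hD : D ∈ [chevG2, chevB2, chevD4, chevF4, chevE6, chevE7, chevE8]) (J : Finset ℕ)
    {g v : ↥(D.group F)} (hg : g ∈ D.parabolicIn F J) (hv : v ∈ stv_UJ D F J) :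
    g * v * g⁻¹ ∈ stv_UJ D F J := by
  have hG := good3_of_mem D hD
  have hT := T0_of_mem D hD
  have h6 := T6_of_mem D hD
  have h14 := T14_of_mem D hD
  rw [stv_mem_UJ] at hv ⊢
  unfold ChevalleyDatum.parabolicIn at hg
  rw [Subgroup.mem_subgroupOf] at hg
  have hN := parabolic_le_normalizer_rad (F := F) hG.toGood2 hT hG.t3 hG.t4 h6 h14 (↑J : Set ℕ) hg
  have := (Subgroup.mem_set_normalizer_iff.mp hN (v : GL D.Idx F)).mp hv
  rw [Subgroup.coe_mul, Subgroup.coe_mul, Subgroup.coe_inv]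
  exact this

/-- `U_J` is a `p`-group. -/
theorem stv_UJ_isPGroup {F : Type*} [Field F] [Fintype F] (p : ℕ) [Fact p.Prime] [CharP F p]
    (D : ChevalleyDatum)
    (hD : D ∈ [chevG2, chevB2, chevD4, chevF4, chevE6, chevE7, chevE8]) (J : Finset ℕ) :
    IsPGroup p ↥(stv_UJ D F J) := by
  have hG := good3_of_mem D hD
  have hT := T0_of_mem D hD
  have h7 := T7_of_mem D hD
  have h8 := T8_of_mem D hD
  obtain ⟨k, _, hq⟩ := FiniteField.card F p
  have hUp : IsPGroup p ↥(D.posUnipotent F) := by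
    apply IsPGroup.of_card (n := (k : ℕ) * (D.nroots / 2))
    rw [card_posUnipotent hG.toGood2 hT hG.t3 hG.t4 h7 h8, hq, pow_mul]
  have hVU : D.unipotentRadical F (↑J : Set ℕ) ≤ D.posUnipotent F := by
    unfold ChevalleyDatum.unipotentRadical ChevalleyDatum.posUnipotent
    apply Subgroup.closure_mono
    rintro g ⟨r, t, hr, _, hg⟩
    exact ⟨r, t, hr, hg⟩
  have h1 : IsPGroup p ↥(D.unipotentRadical F (↑J : Set ℕ)) := hUp.to_le hVU
  unfold stv_UJ
  exact h1.comap_of_injective (D.group F).subtype Subtype.coe_injective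

/-- `B = U_J · (B ∩ n B n⁻¹)` for `n ∈ N` whose image in `W` has the elements of `J` as left
ascents. -/
theorem stv_chev_split {F : Type u} [Field F] [Fintype F] (D : ChevalleyDatum)
    (hD : D ∈ [chevG2, chevB2, chevD4, chevF4, chevE6, chevE7, chevE8])
    (P : Cfsg.BNPair ↥(D.group F))
    (hPB : P.B = (D.borelSubgroup F).subgroupOf (D.group F))
    (hPN : P.N = (D.monomialSubgroup F).subgroupOf (D.group F))
    (hPS : P.S = {n : ↥(D.group F) | ∃ i < D.rank,
      ((n : GL D.Idx F) : Matrix D.Idx D.Idx F) = D.nMat F (D.simple i) 1})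
    (J : Finset ℕ) (hJ : J ⊆ Finset.range D.rank) (n : P.N)
    (hasc : ∀ j ∈ J, len (RS P) (proj P n) <
      len (RS P) (rr P (sRep (good3_of_mem D hD).toGood2 F) j * proj P n))
    {b : ↥(D.group F)} (hb : b ∈ P.B) :
    ∃ v ∈ stv_UJ D F J, ∃ y ∈ P.B,
      ((n : P.N) : ↥(D.group F))⁻¹ * y * ((n : P.N) : ↥(D.group F)) ∈ P.B ∧ b = v * y := by
  have hG := good3_of_mem D hD
  have hT := T0_of_mem D hD
  have h5 := T5_of_mem D hD
  have h6 := T6_of_mem D hD
  have h9 := T9_of_mem D hD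
  have h14 := T14_of_mem D hD
  have hG2 := hG.toGood2
  have hG1 := hG2.toGood1
  have hBG : D.borelSubgroup F ≤ D.group F := borelSubgroup_le_group hG1
  have himg : sRep hG2 F '' ((Finset.range D.rank : Finset ℕ) : Set ℕ) = P.S := by
    rw [hPS]
    exact image_sRep hG2
  have memB : ∀ g : ↥(D.group F), g ∈ P.B ↔ (g : GL D.Idx F) ∈ D.borelSubgroup F := by
    intro g
    rw [hPB]
    exact Subgroup.mem_subgroupOf
  -- a word for `n`
  have hnN : (((n : P.N) : ↥(D.group F)) : GL D.Idx F) ∈ D.monomialSubgroup F := by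
    have h0 : ((n : P.N) : ↥(D.group F)) ∈ (D.monomialSubgroup F).subgroupOf (D.group F) := by
      rw [← hPN]
      exact n.2
    exact Subgroup.mem_subgroupOf.mp h0
  obtain ⟨h, hh, w, hw, en⟩ := monomialSubgroup_le_nWords hG2 hT h9 hnN
  -- positivity
  have hpos : ∀ j ∈ (↑J : Set ℕ), j < D.rank →
      D.nroots / 2 ≤ (tabOf D).reflWord w.reverse (D.simple j) := by
    intro j hjJ hj
    have hjJ' : j ∈ J := by exact_mod_cast hjJ
    have hsN : sRep hG2 F j ∈ P.N := by
      apply P.subset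
      rw [← himg]
      exact ⟨j, by exact_mod_cast Finset.mem_range.mpr hj, rfl⟩
    have hr := rr_mem_RS P himg (Finset.mem_range.mpr hj)
    have hlt := hasc j hjJ'
    rw [rr_eq P hsN] at hlt hr
    exact stv_pos_of_ascent hG2 hT hG.t3 hG.t4 h5 h6 P hPB hw hj ⟨sRep hG2 F j, hsN⟩ n
      (sRep_coe hG2 hj) hh en hr hlt
  -- decomposition in `GL`
  have hbB := (memB b).mp hb
  obtain ⟨v, hv, y, hy, hy', e⟩ := stv_borel_decomp (F := F) hG2 hT hG.t3 hG.t4 h6 h14
    (↑J : Set ℕ) hw hpos hbB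
  have hVB : D.unipotentRadical F (↑J : Set ℕ) ≤ D.borelSubgroup F := by
    have hVU : D.unipotentRadical F (↑J : Set ℕ) ≤ D.posUnipotent F := by
      unfold ChevalleyDatum.unipotentRadical ChevalleyDatum.posUnipotent
      apply Subgroup.closure_mono
      rintro g ⟨r, t, hr, _, hg⟩
      exact ⟨r, t, hr, hg⟩
    exact hVU.trans le_sup_left
  refine ⟨⟨v, hBG (hVB hv)⟩, stv_mem_UJ.mpr hv, ⟨y, hBG hy⟩, (memB _).mpr hy, ?_, ?_⟩
  · rw [memB]
    simp only [Subgroup.coe_mul, Subgroup.coe_inv]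
    rw [en]
    -- `(h n_w)⁻¹ y (h n_w) = n_w⁻¹ (h⁻¹ y h) n_w`, and `h⁻¹ y h` is again of the required kind
    have hHB : D.diagonalSubgroup F ≤ D.borelSubgroup F := le_sup_right
    have e1 : (h * nWordGL hG2 w)⁻¹ * y * (h * nWordGL hG2 w) =
        ((nWordGL hG2 w)⁻¹ * h⁻¹ * nWordGL hG2 w) * ((nWordGL hG2 w)⁻¹ * y * nWordGL hG2 w) *
          ((nWordGL hG2 w)⁻¹ * h * nWordGL hG2 w) := by group
    rw [e1]
    have hN := nWordGL_mem_normalizer (F := F) hG2 w
    exact mul_mem (mul_mem (hHB (conj_mem_diagonal' hN (inv_mem hh))) hy')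
      (hHB (conj_mem_diagonal' hN hh))
  · apply Subtype.ext
    rw [Subgroup.coe_mul]
    exact e

end Cfsg.Agent.StV
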