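import Mathlib
import Cfsg.Agent.StV.RootD
import Cfsg.Agent.StV.ChevA

set_option autoImplicit false

/-!
S2312, package P5, assembly: for `w` in the Weyl group of a Chevalley group with `J ⊆ ascL w` and
`w⁻¹ J w ⊆ K`, the unipotent radical `U_J` is a normal `p`-subgroup of `P_J` which is transitive on
the `P_J`-orbit of the point `ẇ P_K` of `G / P_K`.
(From helper7's `stv_chev_split`, `stv_UJ_normal`, `stv_UJ_isPGroup` and helper2's `stv5_closing`,
`stv5_s_fix_of_into`.)
-/

namespace Cfsg.Agent.StV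

open Cfsg Cfsg.Lie Matrix MulAction
open Cfsg.Agent.Helper7.BN Cfsg.Agent.Helper7.InvWords Cfsg.Agent.Helper7.Chev
open Cfsg.Agent.Lead.CoxComb Cfsg.Agent.Lead.SteinBN Cfsg.Agent.Lead.SteinChar
  Cfsg.Agent.Lead.SteinChev

universe u

variable {D : ChevalleyDatum} {F : Type u} [Field F] [Fintype F]

theorem stv_chev (p : ℕ) [Fact p.Prime] [CharP F p]
    (hD : D ∈ [chevG2, chevB2, chevD4, chevF4, chevE6, chevE7, chevE8]) (hG : Good2 D)
    (P : Cfsg.BNPair ↥(D.group F))
    (hPB : P.B = (D.borelSubgroup F).subgroupOf (D.group F))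
    (hPN : P.N = (D.monomialSubgroup F).subgroupOf (D.group F))
    (hPS : P.S = {n : ↥(D.group F) | ∃ i < D.rank,
        ((n : GL D.Idx F) : Matrix D.Idx D.Idx F) = D.nMat F (D.simple i) 1})
    {J K : Finset ℕ} (hJ : J ⊆ Finset.range D.rank) (hK : K ⊆ Finset.range D.rank) (w : W P)
    (hasc : J ⊆ ascL P (Finset.range D.rank) (sRep hG F) w)
    (hinto : stv_into P (sRep hG F) J K w) :
    ∃ V : Subgroup ↥(D.group F), V ≤ P.parabolic (sRep hG F '' (J : Set ℕ)) ∧
      P.parabolic (sRep hG F '' (J : Set ℕ)) ≤ Subgroup.normalizer (V : Set ↥(D.group F)) ∧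
      IsPGroup p V ∧
      ∀ a ∈ P.parabolic (sRep hG F '' (J : Set ℕ)), ∃ v ∈ V,
        a • ((rep P w : ↥(D.group F)) : ↥(D.group F) ⧸ P.parabolic (sRep hG F '' (K : Set ℕ))) =
          v • ((rep P w : ↥(D.group F)) : ↥(D.group F) ⧸ P.parabolic (sRep hG F '' (K : Set ℕ))) := by
  classical
  have himg : sRep hG F '' ((Finset.range D.rank : Finset ℕ) : Set ℕ) = P.S := by
    rw [hPS]
    exact image_sRep hG
  have hparJ : D.parabolicIn F J = P.parabolic (sRep hG F '' (J : Set ℕ)) :=
    parabolicIn_eq hG P.B hPB J hJ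
  set PJ : Subgroup ↥(D.group F) := P.parabolic (sRep hG F '' (J : Set ℕ)) with hPJ
  set V : Subgroup ↥(D.group F) := stv_UJ D F J with hV
  set x₀ : ↥(D.group F) ⧸ P.parabolic (sRep hG F '' (K : Set ℕ)) :=
    ((rep P w : ↥(D.group F)) : ↥(D.group F) ⧸ P.parabolic (sRep hG F '' (K : Set ℕ))) with hx₀
  have hVB : V ≤ P.B := by
    rw [hPB]
    exact stv_UJ_le_borel D J
  have hVP : V ≤ PJ := hVB.trans (B_le_parabolic P _)
  have hnorm : PJ ≤ Subgroup.normalizer (V : Set ↥(D.group F)) := by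
    intro g hg
    rw [Subgroup.mem_normalizer_iff]
    intro v
    have hg' : g ∈ D.parabolicIn F J := by rw [hparJ]; exact hg
    constructor
    · intro hv
      exact stv_UJ_normal D hD J hg' hv
    · intro hv
      have h1 := stv_UJ_normal D hD J ((D.parabolicIn F J).inv_mem hg') hv
      have e : g⁻¹ * (g * v * g⁻¹) * g⁻¹⁻¹ = v := by group
      rwa [e] at h1
  refine ⟨V, hVP, hnorm, stv_UJ_isPGroup p D hD J, ?_⟩
  -- the representative of `w` as an element of `N`
  set n : P.N := (Quotient.out w : P.N) with hn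
  have hnw : proj P n = w := Quotient.out_eq w
  have hnrep : ((n : P.N) : ↥(D.group F)) = rep P w := rfl
  have hascn : ∀ j ∈ J, len (RS P) (proj P n) <
      len (RS P) (rr P (sRep (good3_of_mem D hD).toGood2 F) j * proj P n) := by
    intro j hj
    rw [hnw]
    have h1 := hasc hj
    unfold ascL at h1
    rw [Finset.mem_filter] at h1
    exact h1.2
  -- the generating set
  set S : Set ↥(D.group F) :=
    ((V : Set ↥(D.group F)) ∪ {y | y ∈ P.B ∧ (rep P w)⁻¹ * y * rep P w ∈ P.B}) ∪
      sRep hG F '' (J : Set ℕ) with hS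
  have hclos : PJ = Subgroup.closure S := by
    apply le_antisymm
    · rw [hPJ]
      unfold Cfsg.BNPair.parabolic
      apply sup_le
      · intro b hb
        obtain ⟨v, hv, y, hy, hy', rfl⟩ := stv_chev_split D hD P hPB hPN hPS J hJ n hascn hb
        rw [hnrep] at hy'
        exact Subgroup.mul_mem _ (Subgroup.subset_closure (Or.inl (Or.inl hv)))
          (Subgroup.subset_closure (Or.inl (Or.inr ⟨hy, hy'⟩)))
      · apply Subgroup.closure_mono
        intro g hg
        exact Or.inr hg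
    · rw [Subgroup.closure_le]
      rintro g ((hg | hg) | hg)
      · exact hVP hg
      · exact B_le_parabolic P _ hg.1
      · exact closure_le_parabolic P _ (Subgroup.subset_closure hg)
  apply stv5_closing V PJ hnorm S hclos x₀
  rintro g ((hg | ⟨hgB, hgc⟩) | ⟨j, hj, rfl⟩)
  · exact Or.inl hg
  · right
    change (((g * rep P w : ↥(D.group F))) : ↥(D.group F) ⧸ P.parabolic (sRep hG F '' (K : Set ℕ))) = _
    rw [QuotientGroup.eq]
    have h2 : (g * rep P w)⁻¹ * rep P w = ((rep P w)⁻¹ * g * rep P w)⁻¹ := by group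
    rw [h2]
    exact Subgroup.inv_mem _ (B_le_parabolic P _ hgc)
  · right
    exact stv5_s_fix_of_into P himg hJ hK w hinto (Finset.mem_coe.mp hj)

end Cfsg.Agent.StV
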