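import Mathlib
import Cfsg.Agent.Lead.CoxCombB

set_option autoImplicit false

/-!
Kilmoyer's theorem for a group generated by involutions with the exchange property:
for a distinguished `(W_J, W_K)` double coset representative `w`,
`W_J ∩ w W_K w⁻¹ = W_{J ∩ w K w⁻¹}`.
-/

namespace Cfsg.Agent.StV

open Cfsg.Agent.Helper7.InvWords Cfsg.Agent.Lead.CoxComb

variable {W : Type*} [Group W] {R : Set W}

/-- The generators in `J` which `w` conjugates into `K`. -/
def stv_JwK (J K : Set W) (w : W) : Set W := J ∩ {r | w⁻¹ * r * w ∈ K}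

theorem stv_JwK_subset_left (J K : Set W) (w : W) : stv_JwK J K w ⊆ J :=
  Set.inter_subset_left

theorem stv_mem_JwK {J K : Set W} {w r : W} :
    r ∈ stv_JwK J K w ↔ r ∈ J ∧ w⁻¹ * r * w ∈ K := Iff.rfl

/-- The inverse of an element without left descents in `J` has no right descents in `J`. -/
theorem stv_inv_mem_DD (h : Sys R) {J K : Set W} (hJ : J ⊆ R) {w : W} (hw : w ∈ DD R J K) :
    w⁻¹ ∈ DD R ∅ J := by
  refine ⟨fun r hr => absurd hr (Set.notMem_empty r), fun r hr => ?_⟩
  have h1 := hw.1 r hr
  have e : w⁻¹ * r = (r * w)⁻¹ := by rw [mul_inv_rev, h.invol.inv_eq (hJ hr)]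
  rw [e, h.len_inv, h.len_inv]
  exact h1

/-- Lengths add on the left of an element without left descents in `J`. -/
theorem stv_len_mul_left (h : Sys R) {J K : Set W} (hJ : J ⊆ R) {w : W} (hw : w ∈ DD R J K)
    {a : W} (ha : a ∈ Subgroup.closure J) : len R (a * w) = len R a + len R w := by
  have h1 := h.len_mul_of_mem_DD hJ (stv_inv_mem_DD h hJ hw) (Subgroup.inv_mem _ ha)
  have e : w⁻¹ * a⁻¹ = (a * w)⁻¹ := by rw [mul_inv_rev]
  rw [e, h.len_inv, h.len_inv, h.len_inv] at h1
  omega

/-- Lengths add on the right of an element without right descents in `K`. -/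
theorem stv_len_mul_right (h : Sys R) {J K : Set W} (hK : K ⊆ R) {w : W} (hw : w ∈ DD R J K)
    {b : W} (hb : b ∈ Subgroup.closure K) : len R (w * b) = len R w + len R b :=
  h.len_mul_of_mem_DD hK ⟨fun r hr => absurd hr (Set.notMem_empty r), hw.2⟩ hb

/-- An element of length one of the subgroup generated by `K ⊆ R` lies in `K`. -/
theorem stv_mem_of_len_one (h : Sys R) {K : Set W} (hK : K ⊆ R) {t : W}
    (ht : t ∈ Subgroup.closure K) (h1 : len R t = 1) : t ∈ K := by
  obtain ⟨l, hl, hpl, hlen⟩ := h.exists_reduced_sub hK ht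
  rw [h1] at hlen
  obtain ⟨x, rfl⟩ := List.length_eq_one_iff.mp hlen
  rw [List.prod_singleton] at hpl
  rw [← hpl]
  exact hl x (by simp)

/-- One step of Kilmoyer's theorem: a left descent `s ∈ J` of `v ∈ W_J` with `v w = w y`
is conjugated into `K` by `w`. -/
theorem stv_kilmoyer_step (h : Sys R) {J K : Set W} (hJ : J ⊆ R) (hK : K ⊆ R) {w : W}
    (hw : w ∈ DD R J K) {v y s : W} (hv : v ∈ Subgroup.closure J)
    (hy : y ∈ Subgroup.closure K) (he : v * w = w * y) (hs : s ∈ J)
    (hdesc : len R (s * v) < len R v) :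
    w⁻¹ * s * w ∈ K ∧ w⁻¹ * s * w * y ∈ Subgroup.closure K := by
  have hsv : s * v ∈ Subgroup.closure J := Subgroup.mul_mem _ (Subgroup.subset_closure hs) hv
  have hL1 : len R (v * w) = len R v + len R w := stv_len_mul_left h hJ hw hv
  have hL2 : len R (s * v * w) = len R (s * v) + len R w := stv_len_mul_left h hJ hw hsv
  have hL3 : len R (w * y) = len R w + len R y := stv_len_mul_right h hK hw hy
  obtain ⟨lw, hlw, hpw, hlenw⟩ := h.exists_reduced w
  obtain ⟨ly, hly, hpy, hleny⟩ := h.exists_reduced_sub hK hy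
  have hword : IsWord R (lw ++ ly) := isWord_append.mpr ⟨hlw, hly.mono hK⟩
  have hprod : (lw ++ ly).prod = w * y := by rw [List.prod_append, hpw, hpy]
  have hred : (lw ++ ly).length = len R (lw ++ ly).prod := by
    rw [hprod, List.length_append, hlenw, hleny, hL3]
  have hle : len R (s * (lw ++ ly).prod) ≤ len R (lw ++ ly).prod := by
    rw [hprod, ← he, ← mul_assoc, hL2, hL1]
    omega
  obtain ⟨i, hi, hex⟩ := h.exch (lw ++ ly) s hword (hJ hs) hred hle
  rw [hprod] at hex
  by_cases hcase : i < lw.length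
  · exfalso
    rw [List.eraseIdx_append_of_lt_length hcase, List.prod_append, hpy] at hex
    have e1 : s * w = (lw.eraseIdx i).prod := by
      have : s * w * y = (lw.eraseIdx i).prod * y := by rw [← hex, mul_assoc]
      exact mul_right_cancel this
    have h1 : len R (s * w) ≤ (lw.eraseIdx i).length := by
      rw [e1]
      exact len_le_of_word (IsWord.sublist (List.eraseIdx_sublist lw i) hlw)
    rw [List.length_eraseIdx_of_lt hcase] at h1
    have h2 := hw.1 s hs
    omega
  · have hcase' : lw.length ≤ i := Nat.le_of_not_lt hcase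
    rw [List.eraseIdx_append_of_length_le hcase', List.prod_append, hpw] at hex
    set j := i - lw.length with hj
    have hjlt : j < ly.length := by
      rw [List.length_append] at hi
      omega
    set y' := (ly.eraseIdx j).prod with hy'
    have hy'K : y' ∈ Subgroup.closure K :=
      (IsWord.sublist (List.eraseIdx_sublist ly j) hly).prod_mem_closure
    -- `t = w⁻¹ s w = y' y⁻¹`
    have et : w⁻¹ * s * w = y' * y⁻¹ := by
      have : s * w * y = w * y' := by rw [← hex, mul_assoc]
      calc w⁻¹ * s * w = w⁻¹ * (s * w * y) * y⁻¹ := by group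
        _ = w⁻¹ * (w * y') * y⁻¹ := by rw [this]
        _ = y' * y⁻¹ := by group
    have htK : w⁻¹ * s * w ∈ Subgroup.closure K := by
      rw [et]
      exact Subgroup.mul_mem _ hy'K (Subgroup.inv_mem _ hy)
    have hsw : s * w = w * (w⁻¹ * s * w) := by group
    have hL4 : len R (w * (w⁻¹ * s * w)) = len R w + len R (w⁻¹ * s * w) :=
      stv_len_mul_right h hK hw htK
    have hL5 : len R (s * w) = len R w + 1 := by
      have := stv_len_mul_left h hJ hw (Subgroup.subset_closure hs)
      have h1 := len_gen_le (hJ hs) (R := R)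
      have h2 := hw.1 s hs
      omega
    have hlen1 : len R (w⁻¹ * s * w) = 1 := by
      rw [← hsw, hL5] at hL4
      omega
    exact ⟨stv_mem_of_len_one h hK htK hlen1, Subgroup.mul_mem _ htK hy⟩

/-- **Kilmoyer's theorem.** For `w` a distinguished `(W_J, W_K)` double coset representative,
`v ∈ W_J`, `y ∈ W_K` and `v w = w y`, the element `v` lies in the subgroup generated by
`J ∩ w K w⁻¹`. -/
theorem stv_kilmoyer (h : Sys R) {J K : Set W} (hJ : J ⊆ R) (hK : K ⊆ R) {w : W}
    (hw : w ∈ DD R J K) : ∀ (n : ℕ) (v y : W), len R v = n → v ∈ Subgroup.closure J →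
      y ∈ Subgroup.closure K → v * w = w * y → v ∈ Subgroup.closure (stv_JwK J K w) := by
  intro n
  induction n with
  | zero =>
    intro v y hn _ _ _
    rw [h.len_eq_zero_iff] at hn
    rw [hn]
    exact Subgroup.one_mem _
  | succ n ih =>
    intro v y hn hv hy he
    obtain ⟨l, hl, hpl, hlen⟩ := h.exists_reduced_sub hJ hv
    rcases l with _ | ⟨s, l⟩
    · rw [List.length_nil] at hlen
      omega
    · rw [isWord_cons] at hl
      rw [List.prod_cons] at hpl
      simp only [List.length_cons] at hlen
      have hsR : s ∈ R := hJ hl.1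
      have hss : s * s = 1 := h.invol s hsR
      have hsv : s * v = l.prod := by
        rw [← hpl, ← mul_assoc, hss, one_mul]
      have hl1 : len R l.prod = n := by
        have h1 := len_le_of_word (hl.2.mono hJ)
        have h2 := len_gen_mul_le h.invol hsR (h.mem l.prod)
        rw [hpl] at h2
        omega
      have hdesc : len R (s * v) < len R v := by
        rw [hsv, hl1, hn]
        exact Nat.lt_succ_self n
      obtain ⟨htK, htyK⟩ := stv_kilmoyer_step h hJ hK hw hv hy he hl.1 hdesc
      have hsmem : s ∈ stv_JwK J K w := ⟨hl.1, htK⟩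
      have he' : l.prod * w = w * (w⁻¹ * s * w * y) := by
        rw [← hsv, mul_assoc s v w, he]
        group
      have hIH := ih l.prod (w⁻¹ * s * w * y) hl1 hl.2.prod_mem_closure htyK he'
      rw [← hpl]
      exact Subgroup.mul_mem _ (Subgroup.subset_closure hsmem) hIH

/-- Kilmoyer's theorem as an equality of subgroups:
`W_J ∩ w W_K w⁻¹ = W_{J ∩ w K w⁻¹}`. -/
theorem stv_kilmoyer_iff (h : Sys R) {J K : Set W} (hJ : J ⊆ R) (hK : K ⊆ R) {w : W}
    (hw : w ∈ DD R J K) (v : W) :
    v ∈ Subgroup.closure (stv_JwK J K w) ↔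
      v ∈ Subgroup.closure J ∧ w⁻¹ * v * w ∈ Subgroup.closure K := by
  constructor
  · intro hv
    refine ⟨Subgroup.closure_mono (stv_JwK_subset_left J K w) hv, ?_⟩
    have hle : Subgroup.closure (stv_JwK J K w) ≤
        (Subgroup.closure K).comap (MulAut.conj w⁻¹).toMonoidHom := by
      rw [Subgroup.closure_le]
      intro r hr
      change (MulAut.conj w⁻¹) r ∈ Subgroup.closure K
      rw [MulAut.conj_apply, inv_inv]
      exact Subgroup.subset_closure hr.2
    have := hle hv
    change (MulAut.conj w⁻¹) v ∈ Subgroup.closure K at this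
    rwa [MulAut.conj_apply, inv_inv] at this
  · rintro ⟨hv, hy⟩
    refine stv_kilmoyer h hJ hK hw _ v (w⁻¹ * v * w) rfl hv hy ?_
    group

end Cfsg.Agent.StV
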