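import Mathlib
import Cfsg.Agent.StV.Kilmoyer

set_option autoImplicit false

/-!
Step (A6), abstract form: in a finite group `W` generated by a set `R` of involutions with the
exchange property, for `J ⊆ R` there is exactly one element `w` without left descents in `J`,
conjugating `J` into `R`, and whose right ascents are exactly the conjugates `w⁻¹ J w`:
it is `w_J w_0`, the product of the longest element of `⟨J⟩` and the longest element of `W`.
-/

namespace Cfsg.Agent.StV

open Cfsg.Agent.Helper7.InvWords Cfsg.Agent.Lead.CoxComb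

variable {W : Type*} [Group W] {R : Set W}

/-- If every element of `K` is a right descent of `e`, then `len (e c) + len c = len e` for
`c` in the subgroup generated by `K`. -/
theorem stv_p2b_len_mul_right (h : Sys R) {K : Set W} (hK : K ⊆ R) {e : W}
    (hdesc : ∀ r ∈ K, len R (e * r) < len R e) {c : W} (hc : c ∈ Subgroup.closure K) :
    len R (e * c) + len R c = len R e := by
  have h1 := h.suffix_of_descents hK hdesc (len R c⁻¹) c⁻¹ (Subgroup.inv_mem _ hc) rfl
  rw [inv_inv, h.len_inv] at h1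
  omega

theorem stv_p2b_len_gen (h : Sys R) {r : W} (hr : r ∈ R) : len R r = 1 :=
  len_gen h.invol hr (fun e => h.one_not_mem (e ▸ hr))

/-- The set of properties we use of a "longest element of `⟨K⟩`": it lies in `⟨K⟩` and all
elements of `K` are right and left descents. -/
structure stv_p2b_Long (R K : Set W) (e : W) : Prop where
  mem : e ∈ Subgroup.closure K
  right : ∀ r ∈ K, len R (e * r) < len R e
  left : ∀ r ∈ K, len R (r * e) < len R e

theorem stv_p2b_Long.eq_of_len (h : Sys R) {K : Set W} (hK : K ⊆ R) {e : W}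
    (he : stv_p2b_Long R K e) {x : W} (hx : x ∈ Subgroup.closure K)
    (hlen : len R x = len R e) : x = e := by
  have h1 := stv_p2b_len_mul_right h hK he.right (Subgroup.inv_mem _ hx)
  rw [h.len_inv] at h1
  have h2 : len R (e * x⁻¹) = 0 := by omega
  rw [h.len_eq_zero_iff] at h2
  have : e = x := by
    have := congrArg (· * x) h2
    simpa using this
  exact this.symm

theorem stv_p2b_Long.inv_eq (h : Sys R) {K : Set W} (hK : K ⊆ R) {e : W}
    (he : stv_p2b_Long R K e) : e⁻¹ = e :=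
  he.eq_of_len h hK (Subgroup.inv_mem _ he.mem) (h.len_inv e)

theorem stv_p2b_Long.mul_self (h : Sys R) {K : Set W} (hK : K ⊆ R) {e : W}
    (he : stv_p2b_Long R K e) : e * e = 1 := by
  have := he.inv_eq h hK
  calc e * e = e⁻¹ * e := by rw [this]
    _ = 1 := inv_mul_cancel e

theorem stv_p2b_Long.len_mul_left (h : Sys R) {K : Set W} (hK : K ⊆ R) {e : W}
    (he : stv_p2b_Long R K e) {c : W} (hc : c ∈ Subgroup.closure K) :
    len R (c * e) + len R c = len R e := by
  have h1 := stv_p2b_len_mul_right h hK he.right (Subgroup.inv_mem _ hc)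
  have e1 : e * c⁻¹ = (c * e)⁻¹ := by rw [mul_inv_rev, he.inv_eq h hK]
  rw [e1, h.len_inv, h.len_inv] at h1
  exact h1

/-- Conjugation by a longest element of `⟨K⟩` permutes `K`. -/
theorem stv_p2b_Long.conj_mem (h : Sys R) {K : Set W} (hK : K ⊆ R) {e : W}
    (he : stv_p2b_Long R K e) {r : W} (hr : r ∈ K) : e * r * e⁻¹ ∈ K := by
  have hrc : r ∈ Subgroup.closure K := Subgroup.subset_closure hr
  have hre : r * e ∈ Subgroup.closure K := Subgroup.mul_mem _ hrc he.mem
  have h1 := stv_p2b_len_mul_right h hK he.right hre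
  have h2 := he.len_mul_left h hK hrc
  have h3 := stv_p2b_len_gen h (hK hr)
  have e1 : e * r * e⁻¹ = e * (r * e) := by rw [he.inv_eq h hK, mul_assoc]
  apply stv_mem_of_len_one h hK
  · exact Subgroup.mul_mem _ (Subgroup.mul_mem _ he.mem hrc) (Subgroup.inv_mem _ he.mem)
  · rw [e1]
    omega

/-- A right descent in `R` of a longest element of `⟨K⟩` lies in `K`. -/
theorem stv_p2b_Long.mem_of_descent (h : Sys R) {K : Set W} (hK : K ⊆ R) {e : W}
    (he : stv_p2b_Long R K e) {t : W} (ht : t ∈ R) (hd : len R (e * t) < len R e) : t ∈ K := by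
  obtain ⟨l, hl, hpl, hlen⟩ := h.exists_reduced_sub hK he.mem
  have hred : l.length = len R l.prod := by rw [hpl, hlen]
  have hle : len R (l.prod * t) ≤ len R l.prod := by rw [hpl]; exact le_of_lt hd
  obtain ⟨l', hsub, -, hprod⟩ := h.right_exchange (hl.mono hK) hred ht hle
  have hl' : IsWord K l' := IsWord.sublist hsub hl
  have e1 : t = l.prod⁻¹ * l'.prod := by rw [hprod]; group
  apply stv_mem_of_len_one h hK
  · rw [e1]
    exact Subgroup.mul_mem _ (Subgroup.inv_mem _ hl.prod_mem_closure) hl'.prod_mem_closure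
  · exact stv_p2b_len_gen h ht

/-- Existence of a longest element of `⟨K⟩`. -/
theorem stv_p2b_exists_long (h : Sys R) [Finite W] {K : Set W} (hK : K ⊆ R) :
    ∃ e : W, stv_p2b_Long R K e := by
  obtain ⟨e, he, hmax⟩ := Set.exists_max_image (Subgroup.closure K : Set W) (len R)
    (Set.toFinite _) ⟨1, Subgroup.one_mem _⟩
  refine ⟨e, he, ?_, ?_⟩
  · intro r hr
    have h1 := hmax (e * r) (Subgroup.mul_mem _ he (Subgroup.subset_closure hr))
    have h2 := h.len_mul_gen_ne (hK hr) e
    omega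
  · intro r hr
    have h1 := hmax (r * e) (Subgroup.mul_mem _ (Subgroup.subset_closure hr) he)
    have h2 := h.len_gen_mul_ne (hK hr) e
    omega

/-- The three conditions of step (A6) on an element `w`. -/
def stv_p2b_Cond (R J : Set W) (w : W) : Prop :=
  (∀ r ∈ J, len R w < len R (r * w)) ∧ (∀ r ∈ J, ∃ k ∈ R, r * w = w * k) ∧
    (∀ k ∈ R, (∃ r ∈ J, r * w = w * k) ↔ len R w < len R (w * k))

/-- Uniqueness: an element satisfying the conditions is `w_J⁻¹ w_0`. -/
theorem stv_p2b_unique (h : Sys R) {J : Set W} (hJ : J ⊆ R) {wJ w0 : W}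
    (hwJ : stv_p2b_Long R J wJ)
    (huniq : ∀ w : W, (∀ r ∈ R, len R (w * r) < len R w) → w = w0)
    {m : W} (hm : stv_p2b_Cond R J m) : m = wJ⁻¹ * w0 := by
  obtain ⟨ha, -, hc⟩ := hm
  have hDD : m ∈ DD R J ∅ := ⟨ha, fun r hr => absurd hr (Set.notMem_empty r)⟩
  have hadd : ∀ a ∈ Subgroup.closure J, len R (a * m) = len R a + len R m :=
    fun a ha' => stv_len_mul_left h hJ hDD ha'
  have hx : wJ * m = w0 := by
    apply huniq
    intro k hk
    have hlen := hadd wJ hwJ.mem
    rcases h.len_mul_gen hk m with h1 | h1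
    · obtain ⟨j, hj, e⟩ := (hc k hk).mpr (by omega)
      have e1 : wJ * m * k = wJ * j * m := by rw [mul_assoc, ← e, mul_assoc]
      rw [e1, hadd _ (Subgroup.mul_mem _ hwJ.mem (Subgroup.subset_closure hj)), hlen]
      have := hwJ.right j hj
      omega
    · have h2 := h.len_mul_le wJ (m * k)
      rw [mul_assoc, hlen]
      omega
  rw [← hx]
  group

/-- Existence: `w_J w_0` satisfies the conditions. -/
theorem stv_p2b_exists (h : Sys R) {J : Set W} (hJ : J ⊆ R) {wJ w0 : W}
    (hwJ : stv_p2b_Long R J wJ) (hw0 : stv_p2b_Long R R w0) :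
    stv_p2b_Cond R J (wJ * w0) := by
  have hRR : R ⊆ R := subset_rfl
  have hJJ : wJ * wJ = 1 := hwJ.mul_self h hJ
  have h00 : w0 * w0 = 1 := hw0.mul_self h hRR
  have hJi : wJ⁻¹ = wJ := hwJ.inv_eq h hJ
  have h0i : w0⁻¹ = w0 := hw0.inv_eq h hRR
  have hlen0 : ∀ c : W, len R (c * w0) + len R c = len R w0 :=
    fun c => hw0.len_mul_left h hRR (h.mem c)
  have hlenw := hlen0 wJ
  -- (a)
  have hA : ∀ r ∈ J, len R (wJ * w0) < len R (r * (wJ * w0)) := by
    intro r hr
    have h1 := hlen0 (r * wJ)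
    have h2 := hwJ.len_mul_left h hJ (Subgroup.subset_closure hr)
    have h3 := stv_p2b_len_gen h (hJ hr)
    rw [← mul_assoc]
    omega
  refine ⟨hA, ?_, ?_⟩
  · -- (b)
    intro r hr
    have h1 : wJ * r * wJ⁻¹ ∈ J := hwJ.conj_mem h hJ hr
    have h2 : w0 * (wJ * r * wJ⁻¹) * w0⁻¹ ∈ R := hw0.conj_mem h hRR (hJ h1)
    refine ⟨_, h2, ?_⟩
    rw [hJi, h0i]
    have e1 : wJ * w0 * (w0 * (wJ * r * wJ) * w0) = wJ * (w0 * w0) * (wJ * r * wJ * w0) := by
      group
    have e2 : wJ * 1 * (wJ * r * wJ * w0) = (wJ * wJ) * (r * (wJ * w0)) := by group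
    rw [e1, h00, e2, hJJ, one_mul]
  · -- (c)
    intro k hk
    constructor
    · rintro ⟨r, hr, e⟩
      rw [← e]
      exact hA r hr
    · intro hlt
      have ht : w0 * k * w0⁻¹ ∈ R := hw0.conj_mem h hRR hk
      have e1 : wJ * w0 * k = wJ * (w0 * k * w0⁻¹) * w0 := by group
      have h1 := hlen0 (wJ * (w0 * k * w0⁻¹))
      rw [e1] at hlt
      have hd : len R (wJ * (w0 * k * w0⁻¹)) < len R wJ := by omega
      have htJ : w0 * k * w0⁻¹ ∈ J := hwJ.mem_of_descent h hJ ht hd
      refine ⟨wJ * (w0 * k * w0⁻¹) * wJ⁻¹, hwJ.conj_mem h hJ htJ, ?_⟩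
      rw [e1]
      group

/-- **Step (A6).** There is exactly one element satisfying the conditions. -/
theorem stv_p2b_exists_unique (h : Sys R) [Finite W] {J : Set W} (hJ : J ⊆ R) :
    ∃ w : W, stv_p2b_Cond R J w ∧ ∀ m : W, stv_p2b_Cond R J m → m = w := by
  obtain ⟨wJ, hwJ⟩ := stv_p2b_exists_long h hJ
  obtain ⟨w0, h1, h2, -, huniq⟩ := h.exists_longest
  have hw0 : stv_p2b_Long R R w0 := ⟨h.mem w0, h1, h2⟩
  refine ⟨wJ * w0, stv_p2b_exists h hJ hwJ hw0, ?_⟩
  intro m hm
  rw [stv_p2b_unique h hJ hwJ huniq hm, hwJ.inv_eq h hJ]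

end Cfsg.Agent.StV
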