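import Mathlib
import Cfsg.Agent.StV.P2bA
import Cfsg.Agent.StV.P4b

set_option autoImplicit false

/-!
Step (A6) in the vocabulary of `stv_St_apply`: exactly one element `w` of the Weyl group has
`J ⊆ ascL w`, `w⁻¹ J w ⊆ I` and `ascR w = w⁻¹ J w`; so the sum of `stv_St_apply` has one term.
-/

namespace Cfsg.Agent.StV

open Cfsg Cfsg.Agent.Helper7.BN Cfsg.Agent.Helper7.InvWords
  Cfsg.Agent.Lead.CoxComb Cfsg.Agent.Lead.SteinBN Cfsg.Agent.Lead.SteinChar

universe u

variable {G : Type u} [Group G] (P : Cfsg.BNPair G)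
variable {ι : Type*} [DecidableEq ι] {I : Finset ι} {s : ι → G}

/-- The condition of `stv_St_apply` on an element of the Weyl group. -/
def stv_p2b_Good (I : Finset ι) (s : ι → G) (J : Finset ι) (m : W P) : Prop :=
  J ⊆ ascL P I s m ∧ stv_into P s J I m ∧ stv_conjSet P I s J m = ascR P I s m

theorem stv_p2b_good_iff (himg : s '' (I : Set ι) = P.S) {J : Finset ι} (hJ : J ⊆ I) (m : W P) :
    stv_p2b_Good P I s J m ↔ stv_p2b_Cond (RS P) (rr P s '' (J : Set ι)) m := by
  classical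
  have hRS := RS_eq_image (I := I) (s := s) P himg
  unfold stv_p2b_Good stv_p2b_Cond
  constructor
  · rintro ⟨h1, h2, h3⟩
    refine ⟨?_, ?_, ?_⟩
    · rintro _ ⟨j, hj, rfl⟩
      have := h1 hj
      unfold ascL at this
      exact (Finset.mem_filter.mp this).2
    · rintro _ ⟨j, hj, rfl⟩
      obtain ⟨k, hk, e⟩ := h2 j hj
      exact ⟨rr P s k, rr_mem_RS P himg hk, e⟩
    · intro k hk
      rw [hRS] at hk
      obtain ⟨i, hi, rfl⟩ := hk
      have h4 := Finset.ext_iff.mp h3 i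
      unfold stv_conjSet ascR at h4
      rw [Finset.mem_filter, Finset.mem_filter] at h4
      constructor
      · rintro ⟨_, ⟨j, hj, rfl⟩, e⟩
        exact (h4.mp ⟨hi, j, hj, e⟩).2
      · intro hlt
        obtain ⟨-, j, hj, e⟩ := h4.mpr ⟨hi, hlt⟩
        exact ⟨rr P s j, ⟨j, hj, rfl⟩, e⟩
  · rintro ⟨h1, h2, h3⟩
    refine ⟨?_, ?_, ?_⟩
    · intro j hj
      unfold ascL
      rw [Finset.mem_filter]
      exact ⟨hJ hj, h1 _ ⟨j, hj, rfl⟩⟩
    · intro j hj
      obtain ⟨k, hk, e⟩ := h2 _ ⟨j, hj, rfl⟩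
      rw [hRS] at hk
      obtain ⟨i, hi, rfl⟩ := hk
      exact ⟨i, hi, e⟩
    · ext i
      unfold stv_conjSet ascR
      rw [Finset.mem_filter, Finset.mem_filter]
      constructor
      · rintro ⟨hi, j, hj, e⟩
        exact ⟨hi, (h3 _ (rr_mem_RS P himg hi)).mp ⟨rr P s j, ⟨j, hj, rfl⟩, e⟩⟩
      · rintro ⟨hi, hlt⟩
        obtain ⟨_, ⟨j, hj, rfl⟩, e⟩ := (h3 _ (rr_mem_RS P himg hi)).mpr hlt
        exact ⟨hi, j, hj, e⟩

/-- **Step (A6).** Exactly one element of the Weyl group satisfies the condition of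
`stv_St_apply`. -/
theorem stv_p2b_main [Finite G] (himg : s '' (I : Set ι) = P.S) {J : Finset ι} (hJ : J ⊆ I) :
    ∃ w : W P, (J ⊆ ascL P I s w ∧ stv_into P s J I w ∧
        stv_conjSet P I s J w = ascR P I s w) ∧
      ∀ m : W P, (J ⊆ ascL P I s m ∧ stv_into P s J I m ∧
        stv_conjSet P I s J m = ascR P I s m) → m = w := by
  have : Finite (W P) := by
    unfold W
    infer_instance
  have hsub : rr P s '' (J : Set ι) ⊆ RS P := by
    rintro _ ⟨j, hj, rfl⟩
    exact rr_mem_RS P himg (hJ hj)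
  obtain ⟨w, hw, huniq⟩ := stv_p2b_exists_unique (sys_RS P) hsub
  refine ⟨w, (stv_p2b_good_iff P himg hJ w).mpr hw, fun m hm => ?_⟩
  exact huniq m ((stv_p2b_good_iff P himg hJ m).mp hm)

/-- The sum of `stv_St_apply` has exactly one term. -/
theorem stv_p2b_sum [Finite G] [Fintype (W P)] (himg : s '' (I : Set ι) = P.S)
    {J : Finset ι} (hJ : J ⊆ I) :
    ∃ w : W P, (J ⊆ ascL P I s w ∧ stv_into P s J I w ∧
        stv_conjSet P I s J w = ascR P I s w) ∧
      ∀ (M : Type) [AddCommMonoid M] (f : W P → M)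
        [∀ m : W P, Decidable (J ⊆ ascL P I s m ∧ stv_into P s J I m ∧
          stv_conjSet P I s J m = ascR P I s m)],
        (∑ m : W P, (if J ⊆ ascL P I s m ∧ stv_into P s J I m ∧
          stv_conjSet P I s J m = ascR P I s m then f m else 0)) = f w := by
  obtain ⟨w, hw, huniq⟩ := stv_p2b_main P himg hJ
  refine ⟨w, hw, ?_⟩
  intro M _ f _
  rw [Finset.sum_eq_single w]
  · rw [if_pos hw]
  · intro m _ hne
    rw [if_neg]
    intro hm
    exact hne (huniq m hm)
  · intro hnot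
    exact absurd (Finset.mem_univ w) hnot


open Classical in
/-- `stv_St_apply` with its sum collapsed to the single term `w = w_J w_0`. -/
theorem stv_p2b_St_apply [Fintype G] {par : Finset ι → Subgroup G}
    (himg : s '' (I : Set ι) = P.S)
    (hpar : ∀ J, J ⊆ I → par J = P.parabolic (s '' (J : Set ι)))
    (hinj : Set.InjOn s (I : Set ι)) {J : Finset ι} (hJ : J ⊆ I) (g : G)
    (h3 : ∀ K, K ⊆ I → ∀ m : W P, J ⊆ ascL P I s m → K ⊆ ascR P I s m →
      stv_F P (s '' (J : Set ι)) (s '' (K : Set ι)) g m ≠ 0 → stv_into P s J K m)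
    (h4 : ∀ K, K ⊆ I → ∀ m : W P, J ⊆ ascL P I s m → K ⊆ ascR P I s m → stv_into P s J K m →
      stv_F P (s '' (J : Set ι)) (s '' (K : Set ι)) g m =
        stv_F P (s '' (J : Set ι)) (s '' ((stv_conjSet P I s J m : Finset ι) : Set ι)) g m) :
    ∃ w : W P, (J ⊆ ascL P I s w ∧ stv_into P s J I w ∧
        stv_conjSet P I s J w = ascR P I s w) ∧
      (∀ m : W P, (J ⊆ ascL P I s m ∧ stv_into P s J I m ∧
        stv_conjSet P I s J m = ascR P I s m) → m = w) ∧
      St I par g = (-1 : ℂ) ^ J.card *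
        (stv_F P (s '' (J : Set ι)) (s '' ((stv_conjSet P I s J w : Finset ι) : Set ι)) g w : ℂ) := by
  obtain ⟨w, hw, huniq⟩ := stv_p2b_main P himg hJ
  refine ⟨w, hw, huniq, ?_⟩
  rw [stv_St_apply P himg hpar hinj hJ g h3 h4]
  congr 1
  rw [Finset.sum_eq_single w]
  · rw [if_pos hw]
  · intro m _ hne
    rw [if_neg]
    intro hm
    exact hne (huniq m hm)
  · intro hnot
    exact absurd (Finset.mem_univ w) hnot

end Cfsg.Agent.StV
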