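import Mathlib
import Cfsg.Agent.StV.Kilmoyer
import Cfsg.Agent.Lead.SteinBNB

set_option autoImplicit false

/-!
Kilmoyer's theorem in a group with a (B,N)-pair: for `w` a distinguished `(W_J, W_K)` double coset
representative, `P_J ∩ n P_K n⁻¹ ≤ P_{J ∩ w K w⁻¹}`.
-/

namespace Cfsg.Agent.StV

open Cfsg Cfsg.Agent.Helper7.BN Cfsg.Agent.Helper7.InvWords Cfsg.Agent.Lead.CoxComb
  Cfsg.Agent.Lead.SteinBN

variable {G : Type*} [Group G] (P : Cfsg.BNPair G)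

/-- The elements of `J` whose image in `W` is conjugated by `w` into the image of `K`. -/
def stv_JK (J K : Set G) (w : W P) : Set G :=
  {s | s ∈ J ∧ ∃ hs : s ∈ P.N, w⁻¹ * proj P ⟨s, hs⟩ * w ∈ Rset P K}

theorem stv_JK_subset (J K : Set G) (w : W P) : stv_JK P J K w ⊆ J := fun _ hs => hs.1

theorem stv_Rset_JK (J K : Set G) (w : W P) :
    Rset P (stv_JK P J K w) = stv_JwK (Rset P J) (Rset P K) w := by
  ext r
  constructor
  · rintro ⟨n, ⟨hnJ, hnN, hn⟩, rfl⟩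
    exact ⟨⟨n, hnJ, rfl⟩, hn⟩
  · rintro ⟨⟨n, hnJ, rfl⟩, hn⟩
    exact ⟨n, ⟨hnJ, n.2, hn⟩, rfl⟩

/-- `J ∩ w K w⁻¹ = J` iff `w` conjugates the image of `J` into the image of `K`. -/
theorem stv_JK_eq_iff (J K : Set G) (hJ : J ⊆ P.S) (w : W P) :
    stv_JK P J K w = J ↔ ∀ r ∈ Rset P J, w⁻¹ * r * w ∈ Rset P K := by
  constructor
  · intro h r hr
    rw [← h, stv_Rset_JK] at hr
    exact hr.2
  · intro h
    apply Set.Subset.antisymm (stv_JK_subset P J K w)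
    intro s hs
    have hsN : s ∈ P.N := P.subset (hJ hs)
    exact ⟨hs, hsN, h _ (mem_Rset_of_mem P hs hsN)⟩

/-- Kilmoyer's theorem in the Weyl group of a (B,N)-pair. -/
theorem stv_kilmoyer_BN {J K : Set G} (hJ : J ⊆ P.S) (hK : K ⊆ P.S) {w : W P}
    (hw : w ∈ DD (RS P) (Rset P J) (Rset P K)) {v y : W P}
    (hv : v ∈ Subgroup.closure (Rset P J)) (hy : y ∈ Subgroup.closure (Rset P K))
    (he : v * w = w * y) : v ∈ Subgroup.closure (Rset P (stv_JK P J K w)) := by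
  rw [stv_Rset_JK]
  exact stv_kilmoyer (sys_RS P) (Rset_mono P hJ) (Rset_mono P hK) hw _ v y rfl hv hy he

/-- (A2) For `w` a distinguished `(W_J, W_K)` double coset representative and `n ∈ C(w)`:
an element of `P_J` conjugated by `n` into `P_K` lies in `P_{J ∩ w K w⁻¹}`. -/
theorem stv_mem_parabolic_JK {J K : Set G} (hJ : J ⊆ P.S) (hK : K ⊆ P.S) {w : W P}
    (hw : w ∈ DD (RS P) (Rset P J) (Rset P K)) {n g : G} (hn : n ∈ CW P w)
    (hg : g ∈ P.parabolic J) (hg' : n⁻¹ * g * n ∈ P.parabolic K) :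
    g ∈ P.parabolic (stv_JK P J K w) := by
  have hJ' : stv_JK P J K w ⊆ P.S := (stv_JK_subset P J K w).trans hJ
  obtain ⟨v, hv⟩ := exists_mem_CW P g
  obtain ⟨y, hy⟩ := exists_mem_CW P (n⁻¹ * g * n)
  have hvJ := (mem_parabolic_iff_CW P hJ hv).mp hg
  have hyK := (mem_parabolic_iff_CW P hK hy).mp hg'
  have hadd1 : len (RS P) (v * w) = len (RS P) v + len (RS P) w :=
    stv_len_mul_left (sys_RS P) (Rset_mono P hJ) hw hvJ
  have hadd2 : len (RS P) (w * y) = len (RS P) w + len (RS P) y :=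
    stv_len_mul_right (sys_RS P) (Rset_mono P hK) hw hyK
  have h1 : g * n ∈ CW P (v * w) := CW_mul_of_add P _ v w rfl hadd1 g hv n hn
  have h2 : n * (n⁻¹ * g * n) ∈ CW P (w * y) := CW_mul_of_add P _ w y rfl hadd2 n hn _ hy
  have e : n * (n⁻¹ * g * n) = g * n := by group
  rw [e] at h2
  have he : v * w = w * y := eq_of_mem_CW P h1 h2
  exact (mem_parabolic_iff_CW P hJ' hv).mpr (stv_kilmoyer_BN P hJ hK hw hvJ hyK he)

/-- (A2), subgroup form with the chosen representative. -/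
theorem stv_parabolic_inf_conj_le {J K : Set G} (hJ : J ⊆ P.S) (hK : K ⊆ P.S) {w : W P}
    (hw : w ∈ DD (RS P) (Rset P J) (Rset P K)) {g : G} (hg : g ∈ P.parabolic J)
    (hg' : (rep P w)⁻¹ * g * rep P w ∈ P.parabolic K) :
    g ∈ P.parabolic (stv_JK P J K w) :=
  stv_mem_parabolic_JK P hJ hK hw (rep_mem_CW P w) hg hg'

/-- (A3) Suppose no conjugate of `g ∈ P_J` lies in `P_{J'}` with `J' ⊂ J`.  If `g` fixes the coset
`x P_K`, where `x ∈ P_J n P_K` with `n ∈ C(w)` and `w` distinguished, then `w` conjugates the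
image of `J` into the image of `K`. -/
theorem stv_conj_of_minimal {J K : Set G} (hJ : J ⊆ P.S) (hK : K ⊆ P.S) {w : W P}
    (hw : w ∈ DD (RS P) (Rset P J) (Rset P K)) {g : G}
    (hmin : ∀ J' ⊆ J, ∀ a : G, a⁻¹ * g * a ∈ P.parabolic J' → J' = J)
    {n p p' x : G} (hn : n ∈ CW P w) (hp : p ∈ P.parabolic J) (hp' : p' ∈ P.parabolic K)
    (hx : x = p * n * p') (hg : g ∈ P.parabolic J) (hfix : x⁻¹ * g * x ∈ P.parabolic K) :
    ∀ r ∈ Rset P J, w⁻¹ * r * w ∈ Rset P K := by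
  have h1 : p⁻¹ * g * p ∈ P.parabolic J :=
    Subgroup.mul_mem _ (Subgroup.mul_mem _ (Subgroup.inv_mem _ hp) hg) hp
  have h2 : n⁻¹ * (p⁻¹ * g * p) * n ∈ P.parabolic K := by
    have e : n⁻¹ * (p⁻¹ * g * p) * n = p' * (x⁻¹ * g * x) * p'⁻¹ := by
      rw [hx]
      group
    rw [e]
    exact Subgroup.mul_mem _ (Subgroup.mul_mem _ hp' hfix) (Subgroup.inv_mem _ hp')
  have h3 := stv_mem_parabolic_JK P hJ hK hw hn h1 h2
  have h4 := hmin _ (stv_JK_subset P J K w) p h3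
  exact (stv_JK_eq_iff P J K hJ w).mp h4

end Cfsg.Agent.StV
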