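import Mathlib
import Cfsg.Agent.StV.P4b

set_option autoImplicit false

/-!
Step (A3): for an element `g` of `P_J` lying in no conjugate of a smaller standard parabolic
subgroup, a `P_J`-orbit on `G / P_K` containing a fixed point of `g` has `w⁻¹ J w ⊆ K`.
-/

namespace Cfsg.Agent.StV

open Cfsg Cfsg.Agent.Helper7.BN Cfsg.Agent.Helper7.InvWords
  Cfsg.Agent.Lead.CoxComb Cfsg.Agent.Lead.SteinBN Cfsg.Agent.Lead.SteinChar MulAction

universe u

variable {G : Type u} [Group G] (P : Cfsg.BNPair G)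
variable {ι : Type*} [DecidableEq ι] {I : Finset ι} {s : ι → G}

open Classical in
/-- `J ∩ w K w⁻¹`. -/
noncomputable def stv_meet (s : ι → G) (J K : Finset ι) (w : W P) : Finset ι :=
  J.filter (fun j => ∃ k ∈ K, rr P s j * w = w * rr P s k)

theorem stv_meet_subset (J K : Finset ι) (w : W P) : stv_meet P s J K w ⊆ J := by
  classical
  unfold stv_meet
  exact Finset.filter_subset _ _

theorem stv_into_of_meet_eq {J K : Finset ι} {w : W P} (h : stv_meet P s J K w = J) :
    stv_into P s J K w := by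
  classical
  intro j hj
  rw [← h] at hj
  unfold stv_meet at hj
  rw [Finset.mem_filter] at hj
  exact hj.2

/-- Step (A3). -/
theorem stv_into_of_fixed {J K : Finset ι} (hJ : J ⊆ I) {m : W P} {g : G}
    (hg : g ∈ P.parabolic (s '' (J : Set ι)))
    (hA2 : ∀ x ∈ P.parabolic (s '' (J : Set ι)),
      (rep P m)⁻¹ * x * rep P m ∈ P.parabolic (s '' (K : Set ι)) →
        x ∈ P.parabolic (s '' ((stv_meet P s J K m : Finset ι) : Set ι)))
    (hmin : ∀ J2, J2 ⊆ I → ∀ a : G, a * g * a⁻¹ ∈ P.parabolic (s '' (J2 : Set ι)) →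
      J.card ≤ J2.card)
    (hF : stv_F P (s '' (J : Set ι)) (s '' (K : Set ι)) g m ≠ 0) : stv_into P s J K m := by
  apply stv_into_of_meet_eq
  unfold stv_F at hF
  have hne : Nonempty {x : G ⧸ P.parabolic (s '' (K : Set ι)) //
      x ∈ orbit (P.parabolic (s '' (J : Set ι)))
        ((rep P m : G) : G ⧸ P.parabolic (s '' (K : Set ι))) ∧ g • x = x} := by
    by_contra hcon
    rw [not_nonempty_iff] at hcon
    exact hF Nat.card_of_isEmpty
  obtain ⟨⟨x, hx, hgx⟩⟩ := hne
  induction x using QuotientGroup.induction_on with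
  | H y =>
    rw [stv_mem_orbit_iff] at hx
    obtain ⟨u, hu, v, hv, rfl⟩ := hx
    have h1 : ((g * (u * rep P m * v) : G) : G ⧸ P.parabolic (s '' (K : Set ι))) =
        ((u * rep P m * v : G)) := hgx
    rw [QuotientGroup.eq] at h1
    -- h1 : (g * (u * rep m * v))⁻¹ * (u * rep m * v) ∈ P_K
    have h2 : (rep P m)⁻¹ * (u⁻¹ * g * u) * rep P m ∈ P.parabolic (s '' (K : Set ι)) := by
      have h3 := (P.parabolic (s '' (K : Set ι))).inv_mem h1
      have e : ((g * (u * rep P m * v))⁻¹ * (u * rep P m * v))⁻¹ =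
          v⁻¹ * ((rep P m)⁻¹ * (u⁻¹ * g * u) * rep P m) * v := by group
      rw [e] at h3
      have h4 := (P.parabolic (s '' (K : Set ι))).mul_mem
        ((P.parabolic (s '' (K : Set ι))).mul_mem hv h3)
        ((P.parabolic (s '' (K : Set ι))).inv_mem hv)
      have e2 : v * (v⁻¹ * ((rep P m)⁻¹ * (u⁻¹ * g * u) * rep P m) * v) * v⁻¹ =
          (rep P m)⁻¹ * (u⁻¹ * g * u) * rep P m := by group
      rwa [e2] at h4
    have h5 : u⁻¹ * g * u ∈ P.parabolic (s '' (J : Set ι)) :=
      (P.parabolic (s '' (J : Set ι))).mul_mem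
        ((P.parabolic (s '' (J : Set ι))).mul_mem ((P.parabolic (s '' (J : Set ι))).inv_mem hu) hg)
        hu
    have h6 := hA2 _ h5 h2
    have h7 := hmin (stv_meet P s J K m) ((stv_meet_subset P J K m).trans hJ) u⁻¹
      (by rw [inv_inv]; exact h6)
    exact Finset.eq_of_subset_of_card_le (stv_meet_subset P J K m) h7

end Cfsg.Agent.StV
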