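import Mathlib
import Cfsg.Agent.Lead.SteinBNC

set_option autoImplicit false

/-!
S2312 swarm, package P3: double cosets of parabolic subgroups in a group with a (B,N)-pair.
(A2) core: an element of `P_J ∩ ẇ P_K ẇ⁻¹` (`w` the distinguished representative) lies in `C(v)`
with `v ∈ W_J` and `v w = w y`, `y ∈ W_K`.
(A4): if `w⁻¹ W_J w ⊆ W_K` then `P_J ẇ P_K = B ẇ P_K`, and the natural map between the `B`-orbits
of `ẇ P_{J'}` and `ẇ P_K` (`J' ⊆ K`) is a bijection compatible with fixed points.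
-/

namespace Cfsg.Agent.StV

open Cfsg Cfsg.Agent.Helper7.BN Cfsg.Agent.Helper7.InvWords Cfsg.Agent.Lead.CoxComb
open Cfsg.Agent.Lead.SteinBN MulAction

variable {G : Type*} [Group G] (P : Cfsg.BNPair G)

/-- Lengths add for a distinguished left coset representative. -/
theorem stv3_len_mul_left {RJ : Set (W P)} (hRJ : RJ ⊆ RS P) {d : W P}
    (hd : d ∈ DD (RS P) RJ ∅) {a : W P} (ha : a ∈ Subgroup.closure RJ) :
    len (RS P) (a * d) = len (RS P) a + len (RS P) d := by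
  have hs := sys_RS P
  have hd' : d⁻¹ ∈ DD (RS P) ∅ RJ := by
    refine ⟨fun r hr => (Set.notMem_empty r hr).elim, fun r hr => ?_⟩
    have h1 := hd.1 r hr
    have hrinv : r⁻¹ = r := (invol_RS P).inv_eq (hRJ hr)
    have h2 : (d⁻¹ * r) = (r * d)⁻¹ := by rw [mul_inv_rev, hrinv]
    rw [h2, hs.len_inv, hs.len_inv]
    exact h1
  have h3 := hs.len_mul_of_mem_DD hRJ hd' (Subgroup.inv_mem _ ha)
  have h4 : d⁻¹ * a⁻¹ = (a * d)⁻¹ := by rw [mul_inv_rev]
  rw [h4, hs.len_inv, hs.len_inv, hs.len_inv] at h3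
  omega

theorem stv3_DD_left {RJ RK : Set (W P)} {w : W P} (hw : w ∈ DD (RS P) RJ RK) :
    w ∈ DD (RS P) RJ ∅ :=
  ⟨hw.1, fun r hr => (Set.notMem_empty r hr).elim⟩

theorem stv3_DD_right {RJ RK : Set (W P)} {w : W P} (hw : w ∈ DD (RS P) RJ RK) :
    w ∈ DD (RS P) ∅ RK :=
  ⟨fun r hr => (Set.notMem_empty r hr).elim, hw.2⟩

variable {J K : Set G}

/-- (A2), core: for `w` distinguished in `W_J \ W / W_K`, `n ∈ C(w)`, an element `g ∈ P_J` with
`n⁻¹ g n ∈ P_K` lies in `C(v)` with `v ∈ W_J` and `v w = w y` for some `y ∈ W_K`. -/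
theorem stv3_A2_core (hJ : J ⊆ P.S) (hK : K ⊆ P.S) {w : W P}
    (hw : w ∈ DD (RS P) (Rset P J) (Rset P K)) {n g : G} (hn : n ∈ CW P w)
    (hg : g ∈ P.parabolic J) (hgK : n⁻¹ * g * n ∈ P.parabolic K) :
    ∃ v ∈ Subgroup.closure (Rset P J), ∃ y ∈ Subgroup.closure (Rset P K),
      g ∈ CW P v ∧ v * w = w * y := by
  obtain ⟨v, hv⟩ := exists_mem_CW P g
  have hvJ := (mem_parabolic_iff_CW P hJ hv).mp hg
  have hadd := stv3_len_mul_left P (Rset_mono P hJ) (stv3_DD_left P hw) hvJ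
  have h1 : g * n ∈ CW P (v * w) := CW_mul_of_add P _ v w rfl hadd g hv n hn
  obtain ⟨y0, hy0⟩ := exists_mem_CW P (n⁻¹ * g * n)
  have hy0K := (mem_parabolic_iff_CW P hK hy0).mp hgK
  obtain ⟨y, hy, h2⟩ := right_union P (Rset_mono P hK) _ y0 hy0K rfl w n (n⁻¹ * g * n) hn hy0
  have h3 : n * (n⁻¹ * g * n) = g * n := by group
  rw [h3] at h2
  exact ⟨v, hvJ, y, hy, hv, eq_of_mem_CW P h1 h2⟩

/-- (A4), first half: if `w⁻¹ W_J w ⊆ W_K` for the distinguished `w`, then `P_J ẇ ⊆ B ẇ P_K`. -/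
theorem stv3_A4_mul (hJ : J ⊆ P.S) (hK : K ⊆ P.S) {w : W P}
    (hw : w ∈ DD (RS P) (Rset P J) (Rset P K))
    (hconj : ∀ v ∈ Subgroup.closure (Rset P J), w⁻¹ * v * w ∈ Subgroup.closure (Rset P K))
    {n p : G} (hn : n ∈ CW P w) (hp : p ∈ P.parabolic J) :
    ∃ b ∈ P.B, ∃ p' ∈ P.parabolic K, p * n = b * n * p' := by
  obtain ⟨v, hv⟩ := exists_mem_CW P p
  have hvJ := (mem_parabolic_iff_CW P hJ hv).mp hp
  have hadd := stv3_len_mul_left P (Rset_mono P hJ) (stv3_DD_left P hw) hvJ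
  have h1 : p * n ∈ CW P (v * w) := CW_mul_of_add P _ v w rfl hadd p hv n hn
  have hy := hconj v hvJ
  have hvw : v * w = w * (w⁻¹ * v * w) := by group
  rw [hvw] at h1
  obtain ⟨x, hx, z, hz, he⟩ := CW_mul_decomp P h1
  have hzK : z ∈ P.parabolic K := (mem_parabolic_iff_CW P hK hz).mpr hy
  -- `x` and `n` lie in the same double coset of `B`
  have hC : x ∈ C P n := by
    have h2 : CW P w = C P n := by
      unfold CW at hn ⊢
      exact (C_eq_of_mem P hn).symm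
    rw [← h2]
    exact hx
  rw [mem_C] at hC
  obtain ⟨b1, hb1, b2, hb2, rfl⟩ := hC
  refine ⟨b1, hb1, b2 * z, Subgroup.mul_mem _ (B_le_parabolic P K hb2) hzK, ?_⟩
  rw [he]
  group

end Cfsg.Agent.StV
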