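import Mathlib
import Cfsg.Agent.StV.ParA

set_option autoImplicit false

/-!
S2312 swarm, package P3, second part of (A4): when `w⁻¹ W_J w ⊆ W_{J'}`, `J' ⊆ K`, the `P_J`-orbit
of `ẇ P_K` is the `B`-orbit, and the number of fixed points of `g ∈ P_J` on it is the same as on
the `B`-orbit of `ẇ P_{J'}`.
-/

namespace Cfsg.Agent.StV

open Cfsg Cfsg.Agent.Helper7.BN Cfsg.Agent.Helper7.InvWords Cfsg.Agent.Lead.CoxComb
open Cfsg.Agent.Lead.SteinBN MulAction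

variable {G : Type*} [Group G]

/-- The natural map `G ⧸ H → G ⧸ K` for `H ≤ K`. -/
def stv3_proj {H K : Subgroup G} (h : H ≤ K) : G ⧸ H → G ⧸ K :=
  Quotient.map' id (fun a b hab => by
    rw [QuotientGroup.leftRel_apply] at hab ⊢
    exact h hab)

theorem stv3_proj_mk {H K : Subgroup G} (h : H ≤ K) (g : G) :
    stv3_proj h (g : G ⧸ H) = (g : G ⧸ K) := rfl

theorem stv3_proj_smul {H K : Subgroup G} (h : H ≤ K) (g : G) (x : G ⧸ H) :
    stv3_proj h (g • x) = g • stv3_proj h x := by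
  induction x using QuotientGroup.induction_on with
  | H a => rfl


theorem stv3_smul_mk {H : Subgroup G} (g a : G) :
    g • (a : G ⧸ H) = ((g * a : G) : G ⧸ H) := rfl

theorem stv3_sub_smul_mk {H B : Subgroup G} (d : B) (a : G) :
    d • (a : G ⧸ H) = (((d : G) * a : G) : G ⧸ H) := rfl

theorem stv3_sub_smul {H B : Subgroup G} (d : B) (x : G ⧸ H) :
    d • x = (d : G) • x := rfl

theorem stv3_mem_orbit_sub {H B : Subgroup G} {x y : G ⧸ H} :
    x ∈ orbit B y ↔ ∃ b ∈ B, x = b • y := by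
  rw [mem_orbit_iff]
  constructor
  · rintro ⟨d, rfl⟩
    exact ⟨(d : G), d.2, rfl⟩
  · rintro ⟨b, hb, rfl⟩
    exact ⟨⟨b, hb⟩, rfl⟩

variable (P : Cfsg.BNPair G) {J J' K : Set G}

/-- (A4): the `P_J`-orbit of `ẇ P_K` is the `B`-orbit. -/
theorem stv3_A4_orbit (hJ : J ⊆ P.S) (hK : K ⊆ P.S) {w : W P}
    (hw : w ∈ DD (RS P) (Rset P J) (Rset P K))
    (hconj : ∀ v ∈ Subgroup.closure (Rset P J), w⁻¹ * v * w ∈ Subgroup.closure (Rset P K))
    (x : G ⧸ P.parabolic K) :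
    (∃ p ∈ P.parabolic J, x = p • ((rep P w : G) : G ⧸ P.parabolic K)) ↔
      x ∈ orbit P.B ((rep P w : G) : G ⧸ P.parabolic K) := by
  rw [stv3_mem_orbit_sub]
  constructor
  · rintro ⟨p, hp, rfl⟩
    obtain ⟨b, hb, p', hp', he⟩ := stv3_A4_mul P hJ hK hw hconj (rep_mem_CW P w) hp
    refine ⟨b, hb, ?_⟩
    rw [stv3_smul_mk, stv3_smul_mk, he, eq_comm, QuotientGroup.eq]
    have : (b * rep P w)⁻¹ * (b * rep P w * p') = p' := by group
    rw [this]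
    exact hp'
  · rintro ⟨b, hb, rfl⟩
    exact ⟨b, B_le_parabolic P J hb, rfl⟩

/-- The `B`-orbit of `ẇ P_K` is stable under `P_J`. -/
theorem stv3_A4_stable (hJ : J ⊆ P.S) (hK : K ⊆ P.S) {w : W P}
    (hw : w ∈ DD (RS P) (Rset P J) (Rset P K))
    (hconj : ∀ v ∈ Subgroup.closure (Rset P J), w⁻¹ * v * w ∈ Subgroup.closure (Rset P K))
    {g : G} (hg : g ∈ P.parabolic J) {x : G ⧸ P.parabolic K}
    (hx : x ∈ orbit P.B ((rep P w : G) : G ⧸ P.parabolic K)) :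
    g • x ∈ orbit P.B ((rep P w : G) : G ⧸ P.parabolic K) := by
  have h1 := (stv3_A4_orbit P hJ hK hw hconj x).mpr hx
  obtain ⟨p, hp, hxp⟩ := h1
  apply (stv3_A4_orbit P hJ hK hw hconj (g • x)).mp
  refine ⟨g * p, Subgroup.mul_mem _ hg hp, ?_⟩
  rw [hxp, mul_smul]

/-- The natural map is injective on the `B`-orbit of `ẇ P_{J'}`. -/
theorem stv3_proj_inj (hJ'K : J' ⊆ K) (hK : K ⊆ P.S) {w : W P}
    (hw : w ∈ DD (RS P) ∅ (Rset P K)) {x y : G ⧸ P.parabolic J'}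
    (hx : x ∈ orbit P.B ((rep P w : G) : G ⧸ P.parabolic J'))
    (hy : y ∈ orbit P.B ((rep P w : G) : G ⧸ P.parabolic J'))
    (h : stv3_proj (parabolic_mono P hJ'K) x = stv3_proj (parabolic_mono P hJ'K) y) : x = y := by
  have hJ' : J' ⊆ P.S := hJ'K.trans hK
  have hw' : w ∈ DD (RS P) ∅ (Rset P J') :=
    ⟨hw.1, fun r hr => hw.2 r (Rset_mono P hJ'K hr)⟩
  rw [mem_orbit_iff] at hx hy
  obtain ⟨b, rfl⟩ := hx
  obtain ⟨c, rfl⟩ := hy
  rw [stv3_sub_smul, stv3_sub_smul, stv3_proj_smul, stv3_proj_smul, stv3_proj_mk] at h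
  have h2 : (c⁻¹ * b) • ((rep P w : G) : G ⧸ P.parabolic K) =
      ((rep P w : G) : G ⧸ P.parabolic K) := by
    rw [stv3_sub_smul, Subgroup.coe_mul, Subgroup.coe_inv, mul_smul, h, ← mul_smul,
      inv_mul_cancel, one_smul]
  have h3 : c⁻¹ * b ∈ stabilizer P.B ((rep P w : G) : G ⧸ P.parabolic K) :=
    mem_stabilizer_iff.mpr h2
  rw [stabilizer_eq P hK hw, ← stabilizer_eq P hJ' hw'] at h3
  have h4 : (c⁻¹ * b) • ((rep P w : G) : G ⧸ P.parabolic J') =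
      ((rep P w : G) : G ⧸ P.parabolic J') := mem_stabilizer_iff.mp h3
  have h5 : b • ((rep P w : G) : G ⧸ P.parabolic J') =
      c • ((c⁻¹ * b) • ((rep P w : G) : G ⧸ P.parabolic J')) := by
    rw [← mul_smul, mul_inv_cancel_left]
  rw [h5, h4]

/-- (A4), second half: the number of fixed points of `g ∈ P_J` on the `B`-orbit of `ẇ P_K` does not
depend on `K ⊇ J'`, where `w⁻¹ W_J w ⊆ W_{J'}`. -/
theorem stv3_A4_fix (hJ : J ⊆ P.S) (hJ'K : J' ⊆ K) (hK : K ⊆ P.S) {w : W P}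
    (hw : w ∈ DD (RS P) (Rset P J) (Rset P K))
    (hconj : ∀ v ∈ Subgroup.closure (Rset P J), w⁻¹ * v * w ∈ Subgroup.closure (Rset P J'))
    {g : G} (hg : g ∈ P.parabolic J) :
    Nat.card {x : G ⧸ P.parabolic J' //
        x ∈ orbit P.B ((rep P w : G) : G ⧸ P.parabolic J') ∧ g • x = x} =
      Nat.card {x : G ⧸ P.parabolic K //
        x ∈ orbit P.B ((rep P w : G) : G ⧸ P.parabolic K) ∧ g • x = x} := by
  have hJ' : J' ⊆ P.S := hJ'K.trans hK
  have hwJ' : w ∈ DD (RS P) (Rset P J) (Rset P J') :=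
    ⟨hw.1, fun r hr => hw.2 r (Rset_mono P hJ'K hr)⟩
  have hwK : w ∈ DD (RS P) ∅ (Rset P K) := stv3_DD_right P hw
  have hmap : ∀ x : G ⧸ P.parabolic J', x ∈ orbit P.B ((rep P w : G) : G ⧸ P.parabolic J') →
      stv3_proj (parabolic_mono P hJ'K) x ∈ orbit P.B ((rep P w : G) : G ⧸ P.parabolic K) := by
    intro x hx
    rw [stv3_mem_orbit_sub] at hx ⊢
    obtain ⟨b, hb, rfl⟩ := hx
    exact ⟨b, hb, by rw [stv3_proj_smul, stv3_proj_mk]⟩
  apply Nat.card_congr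
  refine Equiv.ofBijective
    (fun x => ⟨stv3_proj (parabolic_mono P hJ'K) x.1, hmap x.1 x.2.1, by
      rw [← stv3_proj_smul, x.2.2]⟩) ⟨?_, ?_⟩
  · rintro ⟨x, hx, hgx⟩ ⟨y, hy, hgy⟩ h
    have h1 : stv3_proj (parabolic_mono P hJ'K) x = stv3_proj (parabolic_mono P hJ'K) y :=
      congrArg Subtype.val h
    exact Subtype.ext (stv3_proj_inj P hJ'K hK hwK hx hy h1)
  · rintro ⟨y, hy, hgy⟩
    obtain ⟨b, hb, hyb⟩ := stv3_mem_orbit_sub.mp hy
    have hxo : b • ((rep P w : G) : G ⧸ P.parabolic J') ∈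
        orbit P.B ((rep P w : G) : G ⧸ P.parabolic J') :=
      stv3_mem_orbit_sub.mpr ⟨b, hb, rfl⟩
    have hpx : stv3_proj (parabolic_mono P hJ'K) (b • ((rep P w : G) : G ⧸ P.parabolic J')) = y := by
      rw [stv3_proj_smul, stv3_proj_mk, hyb]
    have hgxo := stv3_A4_stable P hJ hJ' hwJ' hconj hg hxo
    have hfix : g • (b • ((rep P w : G) : G ⧸ P.parabolic J')) =
        b • ((rep P w : G) : G ⧸ P.parabolic J') := by
      apply stv3_proj_inj P hJ'K hK hwK hgxo hxo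
      rw [stv3_proj_smul, hpx, hgy]
    exact ⟨⟨_, hxo, hfix⟩, Subtype.ext hpx⟩

end Cfsg.Agent.StV
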