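import Mathlib
import Cfsg.Agent.StV.ParB
import Cfsg.Agent.StV.KilmoyerBN
import Cfsg.Agent.StV.P4c

set_option autoImplicit false

/-!
S2312 swarm, package P3, interface: steps (A2) and (A4) in the indexed form used by the
orbit-counting formula for the alternating sum of parabolic permutation characters.
-/

namespace Cfsg.Agent.StV

open Cfsg Cfsg.Agent.Helper7.BN Cfsg.Agent.Helper7.InvWords
  Cfsg.Agent.Lead.CoxComb Cfsg.Agent.Lead.SteinBN Cfsg.Agent.Lead.SteinChar MulAction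

universe u

variable {G : Type u} [Group G] (P : Cfsg.BNPair G)
variable {ι : Type*} [DecidableEq ι] {I : Finset ι} {s : ι → G}

/-- `J ∩ w K w⁻¹` in the two indexings. -/
theorem stv3_JK_subset_meet (himg : s '' (I : Set ι) = P.S) {J K : Finset ι}
    (hK : K ⊆ I) (m : W P) :
    stv_JK P (s '' (J : Set ι)) (s '' (K : Set ι)) m ⊆
      s '' ((stv_meet P s J K m : Finset ι) : Set ι) := by
  classical
  rintro t ⟨⟨j, hj, rfl⟩, hN, hmem⟩
  rw [Rset_image P himg hK] at hmem
  obtain ⟨k, hk, hke⟩ := hmem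
  refine ⟨j, ?_, rfl⟩
  rw [Finset.mem_coe]
  unfold stv_meet
  rw [Finset.mem_filter]
  refine ⟨hj, k, hk, ?_⟩
  rw [hke, rr_eq P hN]
  group

/-- Step (A2), indexed form. -/
theorem stv3_A2 (himg : s '' (I : Set ι) = P.S) {J K : Finset ι} (hJ : J ⊆ I) (hK : K ⊆ I)
    {m : W P} (hmJ : J ⊆ ascL P I s m) (hmK : K ⊆ ascR P I s m) :
    ∀ x ∈ P.parabolic (s '' (J : Set ι)),
      (rep P m)⁻¹ * x * rep P m ∈ P.parabolic (s '' (K : Set ι)) →
        x ∈ P.parabolic (s '' ((stv_meet P s J K m : Finset ι) : Set ι)) := by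
  intro x hx hx'
  have hw := (mem_DD_iff P himg hJ hK m).mpr ⟨hmJ, hmK⟩
  have h1 := stv_parabolic_inf_conj_le P (image_subset_S P himg hJ) (image_subset_S P himg hK)
    hw hx hx'
  exact parabolic_mono P (stv3_JK_subset_meet P himg hK m) h1

/-- Step (A3) with (A2) discharged. -/
theorem stv3_A3 (himg : s '' (I : Set ι) = P.S) {J K : Finset ι} (hJ : J ⊆ I) (hK : K ⊆ I)
    {m : W P} (hmJ : J ⊆ ascL P I s m) (hmK : K ⊆ ascR P I s m) {g : G}
    (hg : g ∈ P.parabolic (s '' (J : Set ι)))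
    (hmin : ∀ J2, J2 ⊆ I → ∀ a : G, a * g * a⁻¹ ∈ P.parabolic (s '' (J2 : Set ι)) →
      J.card ≤ J2.card)
    (hF : stv_F P (s '' (J : Set ι)) (s '' (K : Set ι)) g m ≠ 0) : stv_into P s J K m :=
  stv_into_of_fixed P hJ hg (stv3_A2 P himg hJ hK hmJ hmK) hmin hF

/-- `w⁻¹ W_J w ⊆ W_{w⁻¹ J w}` from the elementwise statement. -/
theorem stv3_conj_closure (himg : s '' (I : Set ι) = P.S) {J : Finset ι} (hJ : J ⊆ I)
    {m : W P} (hin : stv_into P s J I m) :
    ∀ v ∈ Subgroup.closure (Rset P (s '' (J : Set ι))),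
      m⁻¹ * v * m ∈
        Subgroup.closure (Rset P (s '' ((stv_conjSet P I s J m : Finset ι) : Set ι))) := by
  classical
  have hC : stv_conjSet P I s J m ⊆ I := by
    unfold stv_conjSet
    exact Finset.filter_subset _ _
  have hle : Subgroup.closure (Rset P (s '' (J : Set ι))) ≤
      (Subgroup.closure (Rset P (s '' ((stv_conjSet P I s J m : Finset ι) : Set ι)))).comap
        (MulAut.conj m⁻¹).toMonoidHom := by
    rw [Subgroup.closure_le]
    intro r hr
    rw [Rset_image P himg hJ] at hr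
    obtain ⟨j, hj, rfl⟩ := hr
    obtain ⟨k, hk, e⟩ := hin j hj
    rw [SetLike.mem_coe, Subgroup.mem_comap]
    apply Subgroup.subset_closure
    rw [Rset_image P himg hC]
    refine ⟨k, ?_, ?_⟩
    · rw [Finset.mem_coe]
      unfold stv_conjSet
      rw [Finset.mem_filter]
      exact ⟨hk, j, hj, e⟩
    · simp only [MulEquiv.coe_toMonoidHom, MulAut.conj_apply, inv_inv]
      rw [mul_assoc, e]
      group
  intro v hv
  have := hle hv
  rw [Subgroup.mem_comap] at this
  simpa only [MulEquiv.coe_toMonoidHom, MulAut.conj_apply, inv_inv] using this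

/-- The number of fixed points on the `P_J`-orbit, as a count on the `B`-orbit. -/
theorem stv3_F_eq_B {J K : Set G} (hJ : J ⊆ P.S) (hK : K ⊆ P.S) {w : W P}
    (hw : w ∈ DD (RS P) (Rset P J) (Rset P K))
    (hconj : ∀ v ∈ Subgroup.closure (Rset P J), w⁻¹ * v * w ∈ Subgroup.closure (Rset P K))
    (g : G) :
    stv_F P J K g w = Nat.card {x : G ⧸ P.parabolic K //
        x ∈ orbit P.B ((rep P w : G) : G ⧸ P.parabolic K) ∧ g • x = x} := by
  unfold stv_F
  apply Nat.card_congr
  apply Equiv.subtypeEquivRight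
  intro x
  rw [← stv3_A4_orbit P hJ hK hw hconj x, stv3_mem_orbit_sub]

/-- Step (A4), indexed form. -/
theorem stv3_A4 (himg : s '' (I : Set ι) = P.S) (hinj : Set.InjOn s (I : Set ι))
    {J : Finset ι} (hJ : J ⊆ I) {g : G} (hg : g ∈ P.parabolic (s '' (J : Set ι))) :
    ∀ K, K ⊆ I → ∀ m : W P, J ⊆ ascL P I s m → K ⊆ ascR P I s m → stv_into P s J K m →
      stv_F P (s '' (J : Set ι)) (s '' (K : Set ι)) g m =
        stv_F P (s '' (J : Set ι)) (s '' ((stv_conjSet P I s J m : Finset ι) : Set ι)) g m := by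
  classical
  intro K hK m hmJ hmK hin
  obtain ⟨hinI, hCK⟩ := (stv_into_iff P himg hinj hK m).mp hin
  have hC : stv_conjSet P I s J m ⊆ I := hCK.trans hK
  have hJS := image_subset_S P himg hJ
  have hKS := image_subset_S P himg hK
  have hCS := image_subset_S P himg hC
  have hCK' : s '' ((stv_conjSet P I s J m : Finset ι) : Set ι) ⊆ s '' (K : Set ι) :=
    Set.image_mono (by exact_mod_cast hCK)
  have hwK := (mem_DD_iff P himg hJ hK m).mpr ⟨hmJ, hmK⟩
  have hwC := (mem_DD_iff P himg hJ hC m).mpr ⟨hmJ, hCK.trans hmK⟩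
  have hconjC := stv3_conj_closure P himg hJ hinI
  have hconjK : ∀ v ∈ Subgroup.closure (Rset P (s '' (J : Set ι))),
      m⁻¹ * v * m ∈ Subgroup.closure (Rset P (s '' (K : Set ι))) := fun v hv =>
    Subgroup.closure_mono (Rset_mono P hCK') (hconjC v hv)
  rw [stv3_F_eq_B P hJS hKS hwK hconjK g, stv3_F_eq_B P hJS hCS hwC hconjC g]
  exact (stv3_A4_fix P hJS hCK' hKS hwK hconjC hg).symm

end Cfsg.Agent.StV
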