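import Mathlib
import Cfsg.Agent.StV.ParC
import Cfsg.Agent.StV.P2b

set_option autoImplicit false

/-!
S2312 swarm: the end formula for the alternating sum of parabolic permutation characters at an
element `g` of a standard parabolic subgroup `P_J` with `|J|` minimal: a single term survives.
-/

namespace Cfsg.Agent.StV

open Cfsg Cfsg.Agent.Helper7.BN Cfsg.Agent.Helper7.InvWords
  Cfsg.Agent.Lead.CoxComb Cfsg.Agent.Lead.SteinBN Cfsg.Agent.Lead.SteinChar MulAction

universe u

variable {G : Type u} [Group G] [Fintype G] (P : Cfsg.BNPair G)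
variable {ι : Type*} [DecidableEq ι] {I : Finset ι} {s : ι → G} {par : Finset ι → Subgroup G}

/-- The end formula (steps (A1)-(A6) combined). -/
theorem stv3_end_formula (himg : s '' (I : Set ι) = P.S)
    (hpar : ∀ J, J ⊆ I → par J = P.parabolic (s '' (J : Set ι)))
    (hinj : Set.InjOn s (I : Set ι)) {J : Finset ι} (hJ : J ⊆ I) (g : G)
    (hg : g ∈ P.parabolic (s '' (J : Set ι)))
    (hmin : ∀ J2 : Finset ι, J2 ⊆ I → ∀ a : G, a * g * a⁻¹ ∈ P.parabolic (s '' (J2 : Set ι)) →
      J.card ≤ J2.card) :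
    ∃ (w : W P) (K : Finset ι), K ⊆ I ∧ J ⊆ ascL P I s w ∧ stv_into P s J K w ∧
      St I par g = (-1 : ℂ) ^ J.card *
        (stv_F P (s '' (J : Set ι)) (s '' (K : Set ι)) g w : ℂ) := by
  classical
  obtain ⟨w, ⟨h1, h2, h3⟩, -, hSt⟩ := stv_p2b_St_apply P himg hpar hinj hJ g
    (fun K hK m hm1 hm2 hF => stv3_A3 P himg hJ hK hm1 hm2 hg hmin hF)
    (stv3_A4 P himg hinj hJ hg)
  have hC : stv_conjSet P I s J w ⊆ I := by
    unfold stv_conjSet
    exact Finset.filter_subset _ _
  refine ⟨w, stv_conjSet P I s J w, hC, h1, ?_, hSt⟩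
  exact (stv_into_iff P himg hinj hC w).mpr ⟨h2, le_refl _⟩

end Cfsg.Agent.StV
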