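import Mathlib
import Cfsg.Agent.Lead.SteinChevD

set_option autoImplicit false

/-!
Two small pieces for the value of the Steinberg character at a `p'`-element:
a conjugate in a minimal standard parabolic, and injectivity of the representatives `n_i`.
-/

namespace Cfsg.Agent.StV

open Cfsg Cfsg.Lie Matrix MulAction
open Cfsg.Agent.Helper7.BN Cfsg.Agent.Helper7.InvWords Cfsg.Agent.Helper7.Chev
open Cfsg.Agent.Lead.CoxComb Cfsg.Agent.Lead.SteinBN Cfsg.Agent.Lead.SteinChar Cfsg.Agent.Lead.SteinChev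

universe u

section bn

variable {G : Type u} [Group G] [Fintype G] (P : Cfsg.BNPair G)
variable {ι : Type*} [DecidableEq ι] {I : Finset ι} {s : ι → G} {par : Finset ι → Subgroup G}

/-- A conjugate of `g` lies in a standard parabolic `P_J` with `|J|` minimal. -/
theorem stv_exists_min (himg : s '' (I : Set ι) = P.S) (g : G) :
    ∃ (J : Finset ι) (c : G), J ⊆ I ∧ c⁻¹ * g * c ∈ P.parabolic (s '' (J : Set ι)) ∧
      ∀ J2 : Finset ι, J2 ⊆ I → ∀ a : G,
        a * (c⁻¹ * g * c) * a⁻¹ ∈ P.parabolic (s '' (J2 : Set ι)) → J.card ≤ J2.card := by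
  classical
  let Q : ℕ → Prop := fun n => ∃ (J : Finset ι) (c : G), J ⊆ I ∧ J.card = n ∧
    c⁻¹ * g * c ∈ P.parabolic (s '' (J : Set ι))
  have hex : ∃ n, Q n := by
    refine ⟨I.card, I, 1, Finset.Subset.refl _, rfl, ?_⟩
    rw [himg]
    have htop : P.parabolic P.S = ⊤ := by
      unfold Cfsg.BNPair.parabolic
      exact closure_S_sup_B P
    rw [htop]
    exact Subgroup.mem_top _
  obtain ⟨J, c, hJ, hcard, hc⟩ := Nat.find_spec hex
  refine ⟨J, c, hJ, hc, ?_⟩
  intro J2 hJ2 a ha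
  rw [hcard]
  apply Nat.find_min' hex
  refine ⟨J2, c * a⁻¹, hJ2, rfl, ?_⟩
  have h1 : (c * a⁻¹)⁻¹ * g * (c * a⁻¹) = a * (c⁻¹ * g * c) * a⁻¹ := by group
  rw [h1]
  exact ha

end bn

section chev

variable {D : ChevalleyDatum} {F : Type u} [Field F] [Fintype F]

/-- The representatives `n_i` are pairwise distinct. -/
theorem stv_sRep_injOn (hG : Good2 D)
    (hD : D ∈ [chevG2, chevB2, chevD4, chevF4, chevE6, chevE7, chevE8]) :
    Set.InjOn (sRep hG F) ((Finset.range D.rank : Finset ℕ) : Set ℕ) := by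
  have hT := T0_of_mem D hD
  have h6 := T6_of_mem D hD
  have h8 := T8_of_mem D hD
  have h9 := T9_of_mem D hD
  intro i hi j hj hij
  have hi' : i < D.rank := Finset.mem_range.1 (Finset.mem_coe.1 hi)
  have hj' : j < D.rank := Finset.mem_range.1 (Finset.mem_coe.1 hj)
  by_contra hne
  have h1 := nGL_inv_mul_not_mem_borel (F := F) hG hT h6 h8 h9 hi' hj' hne
  have h2 : nGL (F := F) hG.toGood1 (hG.toGood1.simple_lt hi') =
      nGL (F := F) hG.toGood1 (hG.toGood1.simple_lt hj') := by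
    rw [← sRep_coe hG hi', ← sRep_coe hG hj', hij]
  rw [h2, inv_mul_cancel] at h1
  exact h1 (Subgroup.one_mem _)

end chev

end Cfsg.Agent.StV
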