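import Mathlib
import Cfsg.Agent.Helper6.FixedTrace

set_option autoImplicit false

/-!
Part I: a character vanishing at the `p`-singular elements takes at a `p`-regular element `g` a
value divisible, in the algebraic integers, by the order of every `p`-subgroup of `C_G(g)`.
-/

namespace Cfsg.Agent.StV

open Cfsg

universe u

variable {G : Type u} [Group G] [Fintype G]

/-- Part I (spare copy, same statement as the stub `stv_partI`). -/
theorem stv9_partI (p : ℕ) [Fact p.Prime] (χ : G → ℂ) (hχ : Cfsg.IsCharacter G χ)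
    (hvan : ∀ x : G, p ∣ orderOf x → χ x = 0) (g : G) (hg : ¬ p ∣ orderOf g)
    (Q : Subgroup G) (hQ : IsPGroup p Q) (hQc : Q ≤ Subgroup.centralizer {g}) :
    ∃ z : ℂ, IsIntegral ℤ z ∧ χ g = (Nat.card Q : ℂ) * z := by
  classical
  have hp : p.Prime := Fact.out
  obtain ⟨n, ρ, rfl⟩ := hχ
  have : Fintype Q := Fintype.ofFinite _
  have hcomm : ∀ q ∈ Q, g * q = q * g := by
    intro q hq
    have := Subgroup.mem_centralizer_iff.mp (hQc hq) g (Set.mem_singleton g)
    exact this
  obtain ⟨β, hβ, hsum⟩ := Cfsg.Agent.Helper6.isIntegral_avg_char_mul ρ Q g hcomm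
  refine ⟨β, hβ, ?_⟩
  rw [← hsum]
  rw [Finset.sum_eq_single (1 : Q)]
  · rw [Subgroup.coe_one, mul_one]
  · intro q _ hq1
    apply hvan
    obtain ⟨k, hk⟩ := (IsPGroup.iff_orderOf.mp hQ) q
    have hk0 : k ≠ 0 := by
      rintro rfl
      rw [pow_zero, orderOf_eq_one_iff] at hk
      exact hq1 hk
    have hq : orderOf (q : G) = p ^ k := by rw [Subgroup.orderOf_coe, hk]
    have hcop : Nat.Coprime (orderOf g) (orderOf (q : G)) := by
      rw [hq]
      exact Nat.Coprime.pow_right _ ((Nat.Prime.coprime_iff_not_dvd hp).mpr hg).symm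
    have hc : Commute g (q : G) := hcomm q q.2
    rw [hc.orderOf_mul_eq_mul_orderOf_of_coprime hcop, hq]
    exact Dvd.dvd.mul_left (dvd_pow_self p hk0) _
  · intro h
    exact absurd (Finset.mem_univ _) h

end Cfsg.Agent.StV
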