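import Mathlib
import Cfsg.Agent.StV.RootD
import Cfsg.Agent.StV.ChevA

set_option autoImplicit false
set_option linter.unusedSectionVars false
set_option linter.unusedVariables false

/-!
S2312, package P5: `stv7_chev` (the statement of the stub `stv_chev`): the unipotent radical `U_J`
is a normal `p`-subgroup of `P_J` which is transitive on the `P_J`-orbit of `ẇ P_K`.
-/

namespace Cfsg.Agent.StV

open Cfsg Cfsg.Lie Matrix MulAction
open Cfsg.Agent.Helper7.BN Cfsg.Agent.Helper7.InvWords Cfsg.Agent.Helper7.Chev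
open Cfsg.Agent.Lead.CoxComb Cfsg.Agent.Lead.SteinBN Cfsg.Agent.Lead.SteinChar
  Cfsg.Agent.Lead.SteinChev

universe u

variable {D : ChevalleyDatum} {F : Type u} [Field F] [Fintype F]

theorem stv7_chev (p : ℕ) [Fact p.Prime] [CharP F p]
    (hD : D ∈ [chevG2, chevB2, chevD4, chevF4, chevE6, chevE7, chevE8]) (hG : Good2 D)
    (P : Cfsg.BNPair ↥(D.group F))
    (hPB : P.B = (D.borelSubgroup F).subgroupOf (D.group F))
    (hPN : P.N = (D.monomialSubgroup F).subgroupOf (D.group F))
    (hPS : P.S = {n : ↥(D.group F) | ∃ i < D.rank,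
        ((n : GL D.Idx F) : Matrix D.Idx D.Idx F) = D.nMat F (D.simple i) 1})
    {J K : Finset ℕ} (hJ : J ⊆ Finset.range D.rank) (hK : K ⊆ Finset.range D.rank) (w : W P)
    (hasc : J ⊆ ascL P (Finset.range D.rank) (sRep hG F) w)
    (hinto : stv_into P (sRep hG F) J K w) :
    ∃ V : Subgroup ↥(D.group F), V ≤ P.parabolic (sRep hG F '' (J : Set ℕ)) ∧
      P.parabolic (sRep hG F '' (J : Set ℕ)) ≤ Subgroup.normalizer (V : Set ↥(D.group F)) ∧
      IsPGroup p V ∧
      ∀ a ∈ P.parabolic (sRep hG F '' (J : Set ℕ)), ∃ v ∈ V,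
        a • ((rep P w : ↥(D.group F)) : ↥(D.group F) ⧸ P.parabolic (sRep hG F '' (K : Set ℕ))) =
          v • ((rep P w : ↥(D.group F)) : ↥(D.group F) ⧸ P.parabolic (sRep hG F '' (K : Set ℕ))) := by
  classical
  have himg : sRep hG F '' ((Finset.range D.rank : Finset ℕ) : Set ℕ) = P.S := by
    rw [hPS]
    exact image_sRep hG
  have hpar : D.parabolicIn F J = P.parabolic (sRep hG F '' (J : Set ℕ)) :=
    parabolicIn_eq hG P.B hPB J hJ
  set PJ := P.parabolic (sRep hG F '' (J : Set ℕ)) with hPJ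
  set V := stv_UJ D F J with hV
  have hVB : V ≤ P.B := by
    rw [hPB]
    exact stv_UJ_le_borel D J
  have hVP : V ≤ PJ := hVB.trans (B_le_parabolic P _)
  have hN : PJ ≤ Subgroup.normalizer (V : Set ↥(D.group F)) := by
    intro g hg
    rw [Subgroup.mem_normalizer_iff]
    intro v
    constructor
    · intro hv
      exact stv_UJ_normal D hD J (hpar ▸ hg) hv
    · intro hv
      have hg' : g⁻¹ ∈ D.parabolicIn F J := hpar ▸ (PJ.inv_mem hg)
      have := stv_UJ_normal D hD J hg' hv
      have e : g⁻¹ * (g * v * g⁻¹) * g⁻¹⁻¹ = v := by group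
      rwa [e] at this
  refine ⟨V, hVP, hN, stv_UJ_isPGroup p D hD J, ?_⟩
  -- the generating set
  set r : ↥(D.group F) := rep P w with hr
  set S : Set ↥(D.group F) := (V : Set ↥(D.group F)) ∪
    {y | y ∈ P.B ∧ r⁻¹ * y * r ∈ P.B} ∪ sRep hG F '' (J : Set ℕ) with hSdef
  have hasc' : ∀ j ∈ J, len (RS P) (proj P ⟨r, stv5_rep_mem_N P w⟩) <
      len (RS P) (rr P (sRep (good3_of_mem D hD).toGood2 F) j *
        proj P ⟨r, stv5_rep_mem_N P w⟩) := by
    intro j hj
    rw [stv5_proj_rep]
    have := hasc hj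
    unfold ascL at this
    exact (Finset.mem_filter.mp this).2
  have hS : PJ = Subgroup.closure S := by
    apply le_antisymm
    · rw [hPJ]
      unfold Cfsg.BNPair.parabolic
      refine sup_le ?_ ?_
      · intro b hb
        obtain ⟨v, hv, y, hy, hy', e⟩ := stv_chev_split D hD P hPB hPN hPS J hJ
          ⟨r, stv5_rep_mem_N P w⟩ hasc' hb
        rw [e]
        exact mul_mem (Subgroup.subset_closure (Or.inl (Or.inl hv)))
          (Subgroup.subset_closure (Or.inl (Or.inr ⟨hy, hy'⟩)))
      · apply Subgroup.closure_mono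
        intro x hx
        exact Or.inr hx
    · rw [Subgroup.closure_le]
      rintro x ((hx | hx) | hx)
      · exact hVP hx
      · exact B_le_parabolic P _ hx.1
      · exact mem_parabolic_of_mem P hx
  apply stv5_closing V PJ hN S hS
  rintro g ((hg | hg) | hg)
  · exact Or.inl hg
  · right
    change (((g * r : ↥(D.group F))) : ↥(D.group F) ⧸ P.parabolic (sRep hG F '' (K : Set ℕ))) = _
    rw [QuotientGroup.eq]
    have h2 : (g * r)⁻¹ * r = (r⁻¹ * g * r)⁻¹ := by group
    rw [h2]
    exact (P.parabolic _).inv_mem (B_le_parabolic P _ hg.2)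
  · right
    obtain ⟨j, hj, rfl⟩ := hg
    exact stv5_s_fix_of_into P himg hJ hK w hinto (by exact_mod_cast hj)

end Cfsg.Agent.StV
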