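import Mathlib
import Cfsg.Agent.Lead.SteinChevB

set_option autoImplicit false

/-!
Step (C4), simple roots: if `r_j` is a left ascent of `w` then `ẇ⁻¹ X_{α_j} ẇ ≤ B`, so the root
subgroup of the fundamental root `α_j` fixes the coset `ẇ P_K`.
-/

namespace Cfsg.Agent.StV

open Cfsg Cfsg.Lie Matrix DoubleCoset Cfsg.Agent.Helper7.Chev Cfsg.Agent.Helper7.BN
  Cfsg.Agent.Helper7.InvWords Cfsg.Agent.Lead.SteinChar Cfsg.Agent.Lead.SteinBN
  Cfsg.Agent.Lead.SteinChev
open scoped Pointwise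

universe u

variable {D : ChevalleyDatum} {F : Type u} [Field F]

section core

variable (hG : Good2 D) (hT : T0 D) (h3 : (tabOf D).T3) (h4 : (tabOf D).T4 60) (h5 : (tabOf D).T5)
  (h6 : (tabOf D).T6) (h9 : (tabOf D).T9)

include hT h3 h4 h5 h6 in
/-- If `r_j` is a left ascent of the image of `n = h n_l`, then `l⁻¹ α_j` is a positive root. -/
theorem stv5c_pos (P : Cfsg.BNPair ↥(D.group F))
    (hPB : P.B = (D.borelSubgroup F).subgroupOf (D.group F))
    {j : ℕ} (hj : j < D.rank) (a n : P.N)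
    (ha : (((a : P.N) : ↥(D.group F)) : GL D.Idx F) = nGL hG.toGood1 (hG.toGood1.simple_lt hj))
    (haRS : proj P a ∈ RS P)
    (hasc : len (RS P) (proj P n) < len (RS P) (proj P a * proj P n))
    {h : GL D.Idx F} (hh : h ∈ D.diagonalSubgroup F) {l : List ℕ} (hl : ∀ i ∈ l, i < D.rank)
    (hn : (((n : P.N) : ↥(D.group F)) : GL D.Idx F) = h * nWordGL hG l) :
    D.nroots / 2 ≤ (tabOf D).reflWord l.reverse (D.simple j) := by
  by_contra hneg
  have hG1 := hG.toGood1
  have hBG : D.borelSubgroup F ≤ D.group F := borelSubgroup_le_group hG1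
  have hp := hG1.simple_lt hj
  set ni : GL D.Idx F := nGL hG1 hp with hni
  have hrev : ∀ i ∈ l.reverse, i < D.rank := fun i hi => hl i (List.mem_reverse.mp hi)
  have hr := reflWord_lt hG hrev hp
  have hniNorm : ni ∈ Subgroup.normalizer (D.diagonalSubgroup F : Set (GL D.Idx F)) :=
    monomialSubgroup_le_normalizer hG (nGL_mem_monomial hG hp)
  have hh' : ni * h * ni⁻¹ ∈ D.diagonalSubgroup F := conj_mem_diagonal hniNorm hh
  have hl' : ∀ i ∈ j :: l, i < D.rank := by
    intro i hi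
    rcases List.mem_cons.mp hi with rfl | hi
    · exact hj
    · exact hl i hi
  have en' : ni * (h * nWordGL hG l) = (ni * h * ni⁻¹) * nWordGL hG (j :: l) := by
    rw [nWordGL_cons hG hj, ← hni]; group
  have hpos' : D.nroots / 2 ≤ (tabOf D).reflWord (j :: l).reverse (D.simple j) := by
    rw [List.reverse_cons, reflWord_append, reflWord_cons]
    change D.nroots / 2 ≤ (tabOf D).reflWord l.reverse
      ((tabOf D).refl (D.simple j) (D.simple j))
    rw [refl_self, reflWord_neg hG hrev hp]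
    exact neg_pos_of_neg hG hT hr (by omega)
  have hgood : Good P (proj P a) (proj P (a * n)) := by
    apply good_of_rep
    intro b hb
    rw [hPB, Subgroup.mem_subgroupOf] at hb
    have key := mul_mem_doubleCoset_of_pos (F := F) hG hT h3 h4 h5 h6 hj hh' hl' hpos' hb
    rw [← en', ← hni] at key
    obtain ⟨b₁, hb₁, b₂, hb₂, e⟩ := mem_doubleCoset.mp key
    refine (mem_C P).mpr ⟨⟨b₁, hBG hb₁⟩, ?_, ⟨b₂, hBG hb₂⟩, ?_, ?_⟩
    · rw [hPB, Subgroup.mem_subgroupOf]; exact hb₁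
    · rw [hPB, Subgroup.mem_subgroupOf]; exact hb₂
    · apply Subtype.ext
      simp only [Subgroup.coe_mul]
      rw [ha, hn]
      exact e
  rw [map_mul] at hgood
  have h1 := (good_iff P haRS).mp hgood
  rw [← mul_assoc, RS_mul_self P haRS, one_mul] at h1
  omega

include hT h3 h4 h5 h6 h9 in
/-- If `r_j` is a left ascent of the image of `n ∈ N`, then `n⁻¹ X_{α_j} n ≤ B`. -/
theorem stv5c_conj_mem_borel (P : Cfsg.BNPair ↥(D.group F))
    (hPB : P.B = (D.borelSubgroup F).subgroupOf (D.group F))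
    (hPN : P.N = (D.monomialSubgroup F).subgroupOf (D.group F))
    {j : ℕ} (hj : j < D.rank) (a n : P.N)
    (ha : (((a : P.N) : ↥(D.group F)) : GL D.Idx F) = nGL hG.toGood1 (hG.toGood1.simple_lt hj))
    (haRS : proj P a ∈ RS P)
    (hasc : len (RS P) (proj P n) < len (RS P) (proj P a * proj P n)) (t : F) :
    (((n : P.N) : ↥(D.group F)) : GL D.Idx F)⁻¹ * xGL hG.toGood1 (hG.toGood1.simple_lt hj) t *
      (((n : P.N) : ↥(D.group F)) : GL D.Idx F) ∈ D.borelSubgroup F := by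
  have hG1 := hG.toGood1
  have hp := hG1.simple_lt hj
  have hmemN : ∀ y : ↥(D.group F), y ∈ P.N → (y : GL D.Idx F) ∈ D.monomialSubgroup F := by
    intro y hy
    rw [hPN, Subgroup.mem_subgroupOf] at hy
    exact hy
  have hnN : (((n : P.N) : ↥(D.group F)) : GL D.Idx F) ∈ D.monomialSubgroup F :=
    hmemN _ n.2
  obtain ⟨h, hh, l, hl, hn⟩ := monomialSubgroup_le_nWords hG hT h9 hnN
  have hpos := stv5c_pos hG hT h3 h4 h5 h6 P hPB hj a n ha haRS hasc hh hl hn
  have hUB : D.posUnipotent F ≤ D.borelSubgroup F := le_sup_left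
  obtain ⟨t', ht'⟩ := diagonal_conj_xGL' hG hh hp t
  obtain ⟨hr, t'', ht''⟩ := nWordGL_inv_conj (F := F) hG hl hp t'
  have e : (((n : P.N) : ↥(D.group F)) : GL D.Idx F)⁻¹ * xGL hG1 hp t *
      (((n : P.N) : ↥(D.group F)) : GL D.Idx F) =
      (nWordGL hG l)⁻¹ * (h⁻¹ * xGL hG1 hp t * h) * nWordGL hG l := by
    rw [hn]; group
  rw [e, ht', ht'']
  apply hUB
  exact Subgroup.subset_closure ⟨_, t'', (isPosRoot_iff hT hr).mpr hpos, xGL_coe hG1 hr t''⟩

end core

/-- (C4), simple roots, at the level of the group: `ẇ⁻¹ x_{α_j}(t) ẇ ∈ B` when `r_j` is a left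
ascent of `w`. -/
theorem stv5_simple_conj_mem_B
    (hD : D ∈ [chevG2, chevB2, chevD4, chevF4, chevE6, chevE7, chevE8]) (hG : Good2 D)
    (P : Cfsg.BNPair ↥(D.group F))
    (hPB : P.B = (D.borelSubgroup F).subgroupOf (D.group F))
    (hPN : P.N = (D.monomialSubgroup F).subgroupOf (D.group F))
    (hPS : P.S = {n : ↥(D.group F) | ∃ i < D.rank,
        ((n : GL D.Idx F) : Matrix D.Idx D.Idx F) = D.nMat F (D.simple i) 1})
    {j : ℕ} (hj : j < D.rank) (w : W P)
    (hasc : len (RS P) w < len (RS P) (rr P (sRep hG F) j * w)) (t : F) (x : ↥(D.group F))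
    (hx : ((x : GL D.Idx F) : Matrix D.Idx D.Idx F) = D.x F (D.simple j) t) :
    (rep P w)⁻¹ * x * rep P w ∈ P.B := by
  have hG3 := good3_of_mem D hD
  have hT := T0_of_mem D hD
  have h5 := T5_of_mem D hD
  have h6 := T6_of_mem D hD
  have h9 := T9_of_mem D hD
  have hG1 := hG.toGood1
  have hp := hG1.simple_lt hj
  have hsS : sRep hG F j ∈ P.S := by
    rw [hPS]
    exact ⟨j, hj, sRep_mat hG hj⟩
  have hsN : sRep hG F j ∈ P.N := P.subset hsS
  have haRS : proj P ⟨sRep hG F j, hsN⟩ ∈ RS P := mem_Rset_of_mem P hsS hsN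
  have hout : proj P (Quotient.out w : P.N) = w := Quotient.out_eq w
  rw [rr_eq P hsN] at hasc
  have hasc' : len (RS P) (proj P (Quotient.out w : P.N)) <
      len (RS P) (proj P ⟨sRep hG F j, hsN⟩ * proj P (Quotient.out w : P.N)) := by
    rw [hout]
    exact hasc
  have key := stv5c_conj_mem_borel hG hT hG3.t3 hG3.t4 h5 h6 h9 P hPB hPN hj
    ⟨sRep hG F j, hsN⟩ (Quotient.out w : P.N) (sRep_coe hG hj) haRS hasc' t
  have hxe : (x : GL D.Idx F) = xGL hG1 hp t := eq_xGL hG1 hp hx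
  rw [hPB, Subgroup.mem_subgroupOf]
  simp only [Subgroup.coe_mul, Subgroup.coe_inv]
  rw [hxe]
  exact key

/-- (C4), simple roots: the root subgroup of `α_j` fixes the coset `ẇ P_K` when `r_j` is a left
ascent of `w`. -/
theorem stv5_simple_fix
    (hD : D ∈ [chevG2, chevB2, chevD4, chevF4, chevE6, chevE7, chevE8]) (hG : Good2 D)
    (P : Cfsg.BNPair ↥(D.group F))
    (hPB : P.B = (D.borelSubgroup F).subgroupOf (D.group F))
    (hPN : P.N = (D.monomialSubgroup F).subgroupOf (D.group F))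
    (hPS : P.S = {n : ↥(D.group F) | ∃ i < D.rank,
        ((n : GL D.Idx F) : Matrix D.Idx D.Idx F) = D.nMat F (D.simple i) 1})
    {j : ℕ} (hj : j < D.rank) (w : W P)
    (hasc : len (RS P) w < len (RS P) (rr P (sRep hG F) j * w)) (K : Set ↥(D.group F)) (t : F)
    (x : ↥(D.group F))
    (hx : ((x : GL D.Idx F) : Matrix D.Idx D.Idx F) = D.x F (D.simple j) t) :
    x • ((rep P w : ↥(D.group F)) : ↥(D.group F) ⧸ P.parabolic K) =
      ((rep P w : ↥(D.group F)) : ↥(D.group F) ⧸ P.parabolic K) := by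
  have hB := stv5_simple_conj_mem_B hD hG P hPB hPN hPS hj w hasc t x hx
  change ((x * rep P w : ↥(D.group F)) : ↥(D.group F) ⧸ P.parabolic K) = _
  rw [QuotientGroup.eq]
  have e : (x * rep P w)⁻¹ * rep P w = ((rep P w)⁻¹ * x * rep P w)⁻¹ := by group
  rw [e]
  exact Subgroup.inv_mem _ (B_le_parabolic P K hB)

end Cfsg.Agent.StV
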