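import Mathlib
import Cfsg.Agent.Helper7.ChevParab

set_option autoImplicit false

/-!
From the fundamental roots of `J` to all positive roots of `Φ_J`: a subgroup of `GL` containing
`n_i` and the root subgroup `X_{α_i}` for all `i ∈ J` contains `X_r` for every positive `r ∈ Φ_J`.
(The induction of `neg_mem_parabolic`, for positive roots.)
-/

namespace Cfsg.Agent.StV

open Cfsg Cfsg.Lie Matrix Cfsg.Agent.Helper7.Chev

variable {D : ChevalleyDatum} {F : Type*} [Field F]

/-- The root subgroups of the positive roots in `Φ_J` lie in every subgroup containing `n_i` and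
`X_{α_i}` for `i ∈ J`. -/
theorem stv5i_pos_mem (hG : Good2 D) (hT : T0 D) (h9 : (tabOf D).T9) (J : Set ℕ)
    (Q : Subgroup (GL D.Idx F))
    (hn : ∀ i (hi : i < D.rank), i ∈ J → nGL hG.toGood1 (hG.toGood1.simple_lt hi) ∈ Q)
    (hx : ∀ i (hi : i < D.rank), i ∈ J → ∀ t : F,
      xGL hG.toGood1 (hG.toGood1.simple_lt hi) t ∈ Q)
    (s : ℕ) (hs : s < D.nroots) (hpos : D.nroots / 2 ≤ s) (hsJ : D.InRootSub J s) (t : F) :
    xGL hG.toGood1 hs t ∈ Q := by
  have hG1 := hG.toGood1
  induction s using Nat.strong_induction_on generalizing t with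
  | _ s ih =>
    rcases h9 s hs hpos with ⟨i, hi, his⟩ | ⟨i, hi, hcr, hpos', hlt⟩
    · -- `s` is fundamental
      have hi' : i < D.rank := hi
      have his' : D.simple i = s := his
      have hiJ : i ∈ J := by
        by_contra hiJ
        have h0 : cr D s i = 0 := hsJ.2 i hi' hiJ
        rw [← his', hG1.cr_simple hi' hi', if_pos rfl] at h0
        exact one_ne_zero h0
      subst his'
      exact hx i hi' hiJ t
    · have hi' : i < D.rank := hi
      have hcr' : cr D s i ≠ 0 := hcr
      have hiJ : i ∈ J := by
        by_contra hiJ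
        exact hcr' (hsJ.2 i hi' hiJ)
      set s' := (tabOf D).refl (D.simple i) s with hs'def
      have hs' : s' < D.nroots := hG.refl_lt hi' hs
      have hs'J : D.InRootSub J s' := inRootSub_refl hG hsJ hi' hiJ
      have hni := hn i hi' hiJ
      have hrefl : (tabOf D).refl (D.simple i) s' = s := by
        rw [hs'def, hG.refl_refl hi' hs]
      set η : F := (((tabOf D).eta (D.simple i) s' : ℤ) : F) with hη
      have hηη : η * η = 1 := by
        rw [hη, ← Int.cast_mul, eta_sq hG1 (hG1.simple_lt hi') hs', Int.cast_one]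
      have hx' := ih s' hlt hs' hpos' hs'J (η * t)
      have e : xGL hG1 hs t =
          nGL hG1 (hG1.simple_lt hi') * xGL hG1 hs' (η * t) *
            (nGL hG1 (hG1.simple_lt hi'))⁻¹ := by
        rw [eq_mul_inv_iff_mul_eq]
        apply Units.ext
        rw [Units.val_mul, Units.val_mul, xGL_coe, xGL_coe, nGL_coe,
          nMat_mul_x hG hi' hs' (η * t)]
        simp only [hrefl]
        rw [← hη, ← mul_assoc, hηη, one_mul]
      rw [e]
      exact mul_mem (mul_mem hni hx') (inv_mem hni)

end Cfsg.Agent.StV
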