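import Mathlib
import Cfsg.Agent.Lead.SteinChevD
import Cfsg.Agent.Helper7.ChevLevi1
import Cfsg.Agent.Helper7.ChevT14

set_option autoImplicit false

/-!
S2312 swarm, package P5: the standard parabolic subgroup `P_J` of a Chevalley group, inside the group
itself: its generators, and its unipotent radical `U_J` as a normal subgroup.
-/

namespace Cfsg.Agent.StV

open Cfsg Cfsg.Lie Matrix MulAction
open Cfsg.Agent.Helper7.BN Cfsg.Agent.Helper7.InvWords Cfsg.Agent.Helper7.Chev
open Cfsg.Agent.Lead.CoxComb Cfsg.Agent.Lead.SteinBN Cfsg.Agent.Lead.SteinChar Cfsg.Agent.Lead.SteinChev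

universe u

section chev

variable {D : ChevalleyDatum} {F : Type u} [Field F] [Fintype F]

/-- The unipotent subgroup `U`, inside the Chevalley group, is generated by the positive root
elements. -/
theorem stv5_posUnipotent_subgroupOf :
    (D.posUnipotent F).subgroupOf (D.group F) = Subgroup.closure
      {g : ↥(D.group F) | ∃ (r : ℕ) (t : F), D.IsPosRoot r ∧
          ((g : GL D.Idx F) : Matrix D.Idx D.Idx F) = D.x F r t} := by
  have hset : {g : GL D.Idx F | ∃ (r : ℕ) (t : F), D.IsPosRoot r ∧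
      (g : Matrix D.Idx D.Idx F) = D.x F r t} =
      (D.group F).subtype '' {g : ↥(D.group F) | ∃ (r : ℕ) (t : F), D.IsPosRoot r ∧
          ((g : GL D.Idx F) : Matrix D.Idx D.Idx F) = D.x F r t} := by
    ext g
    constructor
    · rintro ⟨r, t, hr, hg⟩
      have hgG : g ∈ D.group F :=
        posUnipotent_le_group (Subgroup.subset_closure ⟨r, t, hr, hg⟩)
      exact ⟨⟨g, hgG⟩, ⟨r, t, hr, hg⟩, rfl⟩
    · rintro ⟨g', ⟨r, t, hr, hg⟩, rfl⟩
      exact ⟨r, t, hr, hg⟩
  unfold ChevalleyDatum.posUnipotent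
  rw [hset, ← MonoidHom.map_closure]
  unfold Subgroup.subgroupOf
  exact Subgroup.comap_map_eq_self_of_injective Subtype.coe_injective _

/-- (G0) The generators of `P_J`. -/
theorem stv5_parabolic_eq_closure (hG : Good2 D) (P : Cfsg.BNPair ↥(D.group F))
    (hPB : P.B = (D.borelSubgroup F).subgroupOf (D.group F)) (J : Set ℕ) :
    P.parabolic (sRep hG F '' J) = Subgroup.closure
      ({g : ↥(D.group F) | (g : GL D.Idx F) ∈ D.diagonalSubgroup F} ∪
        {g : ↥(D.group F) | ∃ (r : ℕ) (t : F), D.IsPosRoot r ∧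
          ((g : GL D.Idx F) : Matrix D.Idx D.Idx F) = D.x F r t} ∪ sRep hG F '' J) := by
  have hG1 := hG.toGood1
  have hU : D.posUnipotent F ≤ D.group F := posUnipotent_le_group
  have hH : D.diagonalSubgroup F ≤ D.group F := diagonalSubgroup_le_group hG1
  have hA : {g : ↥(D.group F) | (g : GL D.Idx F) ∈ D.diagonalSubgroup F} =
      (((D.diagonalSubgroup F).subgroupOf (D.group F) : Subgroup ↥(D.group F)) :
        Set ↥(D.group F)) := by
    ext g
    rw [SetLike.mem_coe, Subgroup.mem_subgroupOf]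
    rfl
  unfold BNPair.parabolic
  rw [Subgroup.closure_union, Subgroup.closure_union, hA, Subgroup.closure_eq,
    ← stv5_posUnipotent_subgroupOf, hPB]
  unfold ChevalleyDatum.borelSubgroup
  rw [Subgroup.subgroupOf_sup hU hH, sup_comm ((D.posUnipotent F).subgroupOf (D.group F))]

/-- (V1) `U_J ≤ P_J`. -/
theorem stv5_rad_le (hG : Good2 D) (P : Cfsg.BNPair ↥(D.group F))
    (hPB : P.B = (D.borelSubgroup F).subgroupOf (D.group F)) (J : Set ℕ) :
    (D.unipotentRadical F J).subgroupOf (D.group F) ≤ P.parabolic (sRep hG F '' J) := by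
  have hle : D.unipotentRadical F J ≤ D.borelSubgroup F := by
    refine le_trans ?_ (le_sup_left : D.posUnipotent F ≤ D.borelSubgroup F)
    unfold ChevalleyDatum.unipotentRadical ChevalleyDatum.posUnipotent
    apply Subgroup.closure_mono
    rintro g ⟨r, t, hr, -, hg⟩
    exact ⟨r, t, hr, hg⟩
  intro x hx
  rw [Subgroup.mem_subgroupOf] at hx
  unfold BNPair.parabolic
  apply (le_sup_left : P.B ≤ P.B ⊔ Subgroup.closure (sRep hG F '' J))
  rw [hPB, Subgroup.mem_subgroupOf]
  exact hle hx

/-- (V2) `P_J` normalises `U_J`. -/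
theorem stv5_rad_normal (hD : D ∈ [chevG2, chevB2, chevD4, chevF4, chevE6, chevE7, chevE8])
    (hG : Good2 D) (P : Cfsg.BNPair ↥(D.group F))
    (hPB : P.B = (D.borelSubgroup F).subgroupOf (D.group F)) (J : Finset ℕ)
    (hJ : J ⊆ Finset.range D.rank) :
    P.parabolic (sRep hG F '' (J : Set ℕ)) ≤ Subgroup.normalizer
      (((D.unipotentRadical F (J : Set ℕ)).subgroupOf (D.group F) : Subgroup ↥(D.group F)) :
        Set ↥(D.group F)) := by
  have hG3 := good3_of_mem D hD
  have hnorm : D.parabolicSubgroup F (J : Set ℕ) ≤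
      Subgroup.normalizer (D.unipotentRadical F (J : Set ℕ) : Set (GL D.Idx F)) :=
    parabolic_le_normalizer_rad hG3.toGood2 (T0_of_mem D hD) hG3.t3 hG3.t4 (T6_of_mem D hD)
      (T14_of_mem D hD) (J : Set ℕ)
  have heq : P.parabolic (sRep hG F '' (J : Set ℕ)) = D.parabolicIn F J := by
    rw [parabolicIn_eq hG P.B hPB J hJ]
    rfl
  rw [heq]
  intro x hx
  unfold ChevalleyDatum.parabolicIn at hx
  rw [Subgroup.mem_subgroupOf] at hx
  have hx' := hnorm hx
  rw [Subgroup.mem_normalizer_iff] at hx' ⊢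
  intro h
  rw [Subgroup.mem_subgroupOf, Subgroup.mem_subgroupOf]
  exact hx' (h : GL D.Idx F)

end chev

end Cfsg.Agent.StV
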