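import Mathlib
import Cfsg.Agent.Lead.SteinChevD

set_option autoImplicit false

/-!
The unipotent radical `U_J` of a standard parabolic subgroup of a Chevalley group in
characteristic `p` is a `p`-group, and contains the root elements `x_r(t)` for the positive roots
`r` outside `Φ_J`.
-/

namespace Cfsg.Agent.StV

open Cfsg Cfsg.Lie Matrix Cfsg.Agent.Helper7.Chev Cfsg.Agent.Lead.SteinChev

universe u

section chev

variable {D : ChevalleyDatum} {F : Type u} [Field F] [Fintype F]

/-- `U_J ≤ U`. -/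
theorem stv5_rad_le_posUnipotent (J : Set ℕ) : D.unipotentRadical F J ≤ D.posUnipotent F := by
  unfold ChevalleyDatum.unipotentRadical ChevalleyDatum.posUnipotent
  apply Subgroup.closure_mono
  rintro g ⟨r, t, hr, -, hg⟩
  exact ⟨r, t, hr, hg⟩

/-- (V3) -/
theorem stv5_rad_pgroup (p : ℕ) [Fact p.Prime] [CharP F p]
    (hD : D ∈ [chevG2, chevB2, chevD4, chevF4, chevE6, chevE7, chevE8]) (J : Set ℕ) :
    IsPGroup p ↥((D.unipotentRadical F J).subgroupOf (D.group F)) := by
  have hG := good3_of_mem D hD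
  have hT := T0_of_mem D hD
  have h7 := T7_of_mem D hD
  have h8 := T8_of_mem D hD
  have hG2 := hG.toGood2
  have hcard : Nat.card (D.posUnipotent F) = Fintype.card F ^ (D.nroots / 2) :=
    card_posUnipotent hG2 hT hG.t3 hG.t4 h7 h8
  obtain ⟨n, hn⟩ := FiniteField.card F p
  have hU : IsPGroup p (D.posUnipotent F) := by
    apply IsPGroup.of_card (n := (n : ℕ) * (D.nroots / 2))
    rw [hcard, hn.2, pow_mul]
  have hV : IsPGroup p (D.unipotentRadical F J) := hU.to_le (stv5_rad_le_posUnipotent J)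
  exact hV.comap_subtype

/-- (C3) -/
theorem stv5_rad_mem (J : Set ℕ) {r : ℕ} {t : F} (hr : D.IsPosRoot r) (hrJ : ¬ D.InRootSub J r)
    (x : ↥(D.group F)) (hx : ((x : GL D.Idx F) : Matrix D.Idx D.Idx F) = D.x F r t) :
    x ∈ (D.unipotentRadical F J).subgroupOf (D.group F) := by
  rw [Subgroup.mem_subgroupOf]
  unfold ChevalleyDatum.unipotentRadical
  exact Subgroup.subset_closure ⟨r, t, hr, hrJ, hx⟩

end chev

end Cfsg.Agent.StV
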