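import Mathlib
import Cfsg.Agent.Lead.SteinChevD
import Cfsg.Agent.StV.ChevC4Ind

set_option autoImplicit false

/-!
(C4) for the value of the Steinberg character at a `p'`-element: if the simple root subgroups of `J`
and the representatives `n_j`, `j ∈ J`, fix a point, then so do all positive root subgroups of `Φ_J`.
-/

namespace Cfsg.Agent.StV

open Cfsg Cfsg.Lie Matrix MulAction
open Cfsg.Agent.Helper7.BN Cfsg.Agent.Helper7.InvWords Cfsg.Agent.Helper7.Chev
open Cfsg.Agent.Lead.CoxComb Cfsg.Agent.Lead.SteinBN Cfsg.Agent.Lead.SteinChar Cfsg.Agent.Lead.SteinChev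

universe u

section chev

variable {D : ChevalleyDatum} {F : Type u} [Field F] [Fintype F]

/-- (C4) -/
theorem stv5_root_fix (hD : D ∈ [chevG2, chevB2, chevD4, chevF4, chevE6, chevE7, chevE8])
    (hG : Good2 D) (J : Set ℕ) {X : Type*} [MulAction ↥(D.group F) X] (x₀ : X)
    (hs : ∀ j ∈ J, j < D.rank → ∀ (t : F) (x : ↥(D.group F)),
      ((x : GL D.Idx F) : Matrix D.Idx D.Idx F) = D.x F (D.simple j) t → x • x₀ = x₀)
    (hn : ∀ j ∈ J, j < D.rank → sRep hG F j • x₀ = x₀) :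
    ∀ r, D.IsPosRoot r → D.InRootSub J r → ∀ (t : F) (x : ↥(D.group F)),
      ((x : GL D.Idx F) : Matrix D.Idx D.Idx F) = D.x F r t → x • x₀ = x₀ := by
  have hT := T0_of_mem D hD
  have h9 := T9_of_mem D hD
  have hG1 := hG.toGood1
  set Q : Subgroup (GL D.Idx F) := (stabilizer ↥(D.group F) x₀).map (D.group F).subtype with hQ
  have hn' : ∀ i (hi : i < D.rank), i ∈ J → nGL hG.toGood1 (hG.toGood1.simple_lt hi) ∈ Q := by
    intro i hi hiJ
    refine ⟨sRep hG F i, hn i hiJ hi, ?_⟩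
    rw [Subgroup.coe_subtype]
    exact sRep_coe hG hi
  have hx' : ∀ i (hi : i < D.rank), i ∈ J → ∀ t : F,
      xGL hG.toGood1 (hG.toGood1.simple_lt hi) t ∈ Q := by
    intro i hi hiJ t
    have hmem : xGL hG.toGood1 (hG.toGood1.simple_lt hi) t ∈ D.group F := by
      apply Subgroup.subset_closure
      exact ⟨⟨D.simple i, hG.toGood1.simple_lt hi⟩, t,
        by rw [xGL_coe, Cfsg.Agent.Helper7.x_of_lt D F (hG.toGood1.simple_lt hi)]⟩
    refine ⟨⟨xGL hG.toGood1 (hG.toGood1.simple_lt hi) t, hmem⟩, ?_, rfl⟩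
    exact hs i hiJ hi t _ (xGL_coe _ _ t)
  intro r hr hrJ t x hx
  have hpos : D.nroots / 2 ≤ r := (isPosRoot_iff hT hr.1).mp hr
  obtain ⟨y, hy, hyx⟩ := stv5i_pos_mem hG hT h9 J Q hn' hx' r hr.1 hpos hrJ t
  have hxy : x = y := by
    apply Subtype.ext
    apply Units.ext
    rw [hx]
    rw [Subgroup.coe_subtype] at hyx
    rw [hyx, xGL_coe]
  rw [hxy]
  exact hy

end chev

end Cfsg.Agent.StV
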