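import Mathlib
import Cfsg.Agent.StV.P2b
import Cfsg.Agent.StV.ParC

set_option autoImplicit false

/-!
The end formula at the level of BN-pairs: for `g ∈ P_J` lying in no conjugate of a smaller
standard parabolic subgroup, the alternating sum of parabolic permutation characters at `g` is
`(-1)^{|J|}` times the number of fixed points of `g` on a single `P_J`-orbit.
-/

namespace Cfsg.Agent.StV

open Cfsg Cfsg.Agent.Helper7.BN Cfsg.Agent.Helper7.InvWords
  Cfsg.Agent.Lead.CoxComb Cfsg.Agent.Lead.SteinBN Cfsg.Agent.Lead.SteinChar MulAction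

universe u

variable {G : Type u} [Group G] [Fintype G] (P : Cfsg.BNPair G)
variable {ι : Type*} [DecidableEq ι] {I : Finset ι} {s : ι → G} {par : Finset ι → Subgroup G}

theorem stv_end_formula (himg : s '' (I : Set ι) = P.S)
    (hpar : ∀ J, J ⊆ I → par J = P.parabolic (s '' (J : Set ι)))
    (hinj : Set.InjOn s (I : Set ι)) {J : Finset ι} (hJ : J ⊆ I) (g : G)
    (hg : g ∈ P.parabolic (s '' (J : Set ι)))
    (hmin : ∀ J2 : Finset ι, J2 ⊆ I → ∀ a : G, a * g * a⁻¹ ∈ P.parabolic (s '' (J2 : Set ι)) →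
      J.card ≤ J2.card) :
    ∃ (w : W P) (K : Finset ι), K ⊆ I ∧ J ⊆ ascL P I s w ∧ stv_into P s J K w ∧
      St I par g = (-1 : ℂ) ^ J.card *
        (stv_F P (s '' (J : Set ι)) (s '' (K : Set ι)) g w : ℂ) := by
  classical
  obtain ⟨w, hw, -, hSt⟩ := stv_p2b_St_apply P himg hpar hinj hJ g
    (fun K hK m h1 h2 hF => stv3_A3 P himg hJ hK h1 h2 hg hmin hF)
    (stv3_A4 P himg hinj hJ hg)
  have hKI : stv_conjSet P I s J w ⊆ I := by
    unfold stv_conjSet
    exact Finset.filter_subset _ _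
  refine ⟨w, stv_conjSet P I s J w, hKI, hw.1, ?_, hSt⟩
  exact (stv_into_iff P himg hinj hKI w).mpr ⟨hw.2.1, subset_rfl⟩

end Cfsg.Agent.StV
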