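import Mathlib
import Cfsg.Agent.StV.Kilmoyer

set_option autoImplicit false

/-!
Longest elements of parabolic subgroups in a finite group generated by involutions with the
exchange property, and the element `w* = w_J⁻¹ w_0`: it is the unique `w` without left descents
in `J`, conjugating `J` into `R`, and whose right ascents are exactly the elements of `w⁻¹ J w`.
-/

namespace Cfsg.Agent.StV

open Cfsg.Agent.Helper7.InvWords Cfsg.Agent.Lead.CoxComb

variable {W : Type*} [Group W] {R : Set W}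

/-- `e` lies in the subgroup generated by `J` and every element of `J` is a right descent of `e`:
`e` is the longest element of `W_J`. -/
def stv_lg_IsTop (R J : Set W) (e : W) : Prop :=
  e ∈ Subgroup.closure J ∧ ∀ r ∈ J, len R (e * r) < len R e

theorem stv_lg_len_mul (h : Sys R) {J : Set W} (hJ : J ⊆ R) {e : W} (he : stv_lg_IsTop R J e)
    {c : W} (hc : c ∈ Subgroup.closure J) : len R (e * c) + len R c = len R e := by
  have h1 := h.suffix_of_descents hJ he.2 _ c⁻¹ (Subgroup.inv_mem _ hc) rfl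
  rw [inv_inv, h.len_inv] at h1
  omega

theorem stv_lg_le (h : Sys R) {J : Set W} (hJ : J ⊆ R) {e : W} (he : stv_lg_IsTop R J e)
    {c : W} (hc : c ∈ Subgroup.closure J) : len R c ≤ len R e := by
  have := stv_lg_len_mul h hJ he hc
  omega

theorem stv_lg_left_desc (h : Sys R) {J : Set W} (hJ : J ⊆ R) {e : W}
    (he : stv_lg_IsTop R J e) {r : W} (hr : r ∈ J) : len R (r * e) < len R e := by
  have h1 := stv_lg_le h hJ he (Subgroup.mul_mem _ (Subgroup.subset_closure hr) he.1)
  have h2 := h.len_gen_mul_ne (hJ hr) e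
  omega

theorem stv_lg_unique (h : Sys R) {J : Set W} (hJ : J ⊆ R) {e e' : W}
    (he : stv_lg_IsTop R J e) (he' : stv_lg_IsTop R J e') : e = e' := by
  have h1 := stv_lg_len_mul h hJ he
    (Subgroup.mul_mem _ (Subgroup.inv_mem _ he.1) he'.1 : e⁻¹ * e' ∈ _)
  have h2 := stv_lg_len_mul h hJ he'
    (Subgroup.mul_mem _ (Subgroup.inv_mem _ he'.1) he.1 : e'⁻¹ * e ∈ _)
  rw [mul_inv_cancel_left] at h1 h2
  have h3 : len R (e⁻¹ * e') = 0 := by omega
  rw [h.len_eq_zero_iff] at h3
  exact inv_mul_eq_one.mp h3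

theorem stv_lg_inv_isTop (h : Sys R) {J : Set W} (hJ : J ⊆ R) {e : W}
    (he : stv_lg_IsTop R J e) : stv_lg_IsTop R J e⁻¹ := by
  refine ⟨Subgroup.inv_mem _ he.1, fun r hr => ?_⟩
  have e1 : e⁻¹ * r = (r * e)⁻¹ := by rw [mul_inv_rev, h.invol.inv_eq (hJ hr)]
  rw [e1, h.len_inv, h.len_inv]
  exact stv_lg_left_desc h hJ he hr

theorem stv_lg_inv (h : Sys R) {J : Set W} (hJ : J ⊆ R) {e : W}
    (he : stv_lg_IsTop R J e) : e⁻¹ = e :=
  stv_lg_unique h hJ (stv_lg_inv_isTop h hJ he) he

theorem stv_lg_mul_len (h : Sys R) {J : Set W} (hJ : J ⊆ R) {e : W} (he : stv_lg_IsTop R J e)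
    {c : W} (hc : c ∈ Subgroup.closure J) : len R (c * e) + len R c = len R e := by
  have h1 := stv_lg_len_mul h hJ he (Subgroup.inv_mem _ hc)
  have e1 : e * c⁻¹ = (c * e)⁻¹ := by
    rw [mul_inv_rev, stv_lg_inv h hJ he]
  rw [e1, h.len_inv, h.len_inv] at h1
  exact h1

theorem stv_lg_len_gen (h : Sys R) {r : W} (hr : r ∈ R) : len R r = 1 :=
  len_gen h.invol hr (fun h1 => h.one_not_mem (h1 ▸ hr))

/-- The longest element of `W_J` normalises `J`. -/
theorem stv_lg_conj_mem (h : Sys R) {J : Set W} (hJ : J ⊆ R) {e : W} (he : stv_lg_IsTop R J e)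
    {r : W} (hr : r ∈ J) : e * r * e⁻¹ ∈ J := by
  have hrc : r ∈ Subgroup.closure J := Subgroup.subset_closure hr
  have hc : r * e⁻¹ ∈ Subgroup.closure J := Subgroup.mul_mem _ hrc (Subgroup.inv_mem _ he.1)
  have h1 := stv_lg_len_mul h hJ he hc
  have h2 := stv_lg_mul_len h hJ he hrc
  rw [stv_lg_inv h hJ he] at h1 ⊢
  rw [stv_lg_len_gen h (hJ hr)] at h2
  have h3 : len R (e * r * e) = 1 := by
    rw [mul_assoc]
    omega
  exact stv_mem_of_len_one h hJ
    (Subgroup.mul_mem _ (Subgroup.mul_mem _ he.1 hrc) he.1) h3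

theorem stv_lg_conj_mem' (h : Sys R) {J : Set W} (hJ : J ⊆ R) {e : W} (he : stv_lg_IsTop R J e)
    {r : W} (hr : r ∈ J) : e⁻¹ * r * e ∈ J := by
  have := stv_lg_conj_mem h hJ he hr
  rw [stv_lg_inv h hJ he] at this ⊢
  exact this

/-- Existence of the longest element of `W_J`. -/
theorem stv_lg_exists (h : Sys R) [Finite W] {J : Set W} (hJ : J ⊆ R) :
    ∃ e : W, stv_lg_IsTop R J e := by
  obtain ⟨⟨e, heJ⟩, hmax⟩ :=
    Finite.exists_max (fun a : Subgroup.closure J => len R (a : W))
  refine ⟨e, heJ, fun r hr => ?_⟩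
  have h1 := hmax ⟨e * r, Subgroup.mul_mem _ heJ (Subgroup.subset_closure hr)⟩
  have h2 := h.len_mul_gen_ne (hJ hr) e
  simp only at h1
  omega

/-- A generator outside `J` is a left ascent of every element of `W_J`. -/
theorem stv_lg_len_gen_mul_of_notMem (h : Sys R) {J : Set W} (hJ : J ⊆ R) {t : W} (ht : t ∈ R)
    (htJ : t ∉ J) {a : W} (ha : a ∈ Subgroup.closure J) : len R (t * a) = len R a + 1 := by
  rcases h.len_gen_mul ht a with h1 | h1
  · exact h1
  · exfalso
    obtain ⟨l, hl, hpl, hlen⟩ := h.exists_reduced_sub hJ ha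
    have hle : len R (t * l.prod) ≤ len R l.prod := by
      rw [hpl]
      omega
    obtain ⟨i, _, hex⟩ := h.exch l t (hl.mono hJ) ht (by rw [hpl]; exact hlen) hle
    have htc : t ∈ Subgroup.closure J := by
      have : t = (l.eraseIdx i).prod * l.prod⁻¹ := by rw [← hex]; group
      rw [this]
      exact Subgroup.mul_mem _ (IsWord.sublist (List.eraseIdx_sublist l i) hl).prod_mem_closure
        (Subgroup.inv_mem _ hl.prod_mem_closure)
    exact htJ (gen_mem_of_mem_closure h.invol h.exch hJ h.one_not_mem ht htc)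

/-- The conditions characterising `w* = w_J⁻¹ w_0`. -/
def stv_lg_Star (R J : Set W) (w : W) : Prop :=
  (∀ r ∈ J, len R w < len R (r * w)) ∧ (∀ r ∈ J, w⁻¹ * r * w ∈ R) ∧
    ∀ t ∈ R, len R w < len R (w * t) ↔ ∃ r ∈ J, r * w = w * t

/-- Uniqueness: an element satisfying the conditions is `w_J⁻¹ w_0`. -/
theorem stv_lg_star_eq (h : Sys R) {J : Set W} (hJ : J ⊆ R) {e w0 w : W}
    (he : stv_lg_IsTop R J e) (hw0 : stv_lg_IsTop R R w0) (hw : stv_lg_Star R J w) :
    w = e⁻¹ * w0 := by
  have hDD : w ∈ DD R J ∅ := ⟨hw.1, fun r hr => absurd hr (Set.notMem_empty r)⟩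
  have hx : len R (e * w) = len R e + len R w := stv_len_mul_left h hJ hDD he.1
  have htop : stv_lg_IsTop R R (e * w) := by
    refine ⟨h.mem _, fun t ht => ?_⟩
    by_cases hasc : len R w < len R (w * t)
    · obtain ⟨r, hr, hrw⟩ := (hw.2.2 t ht).mp hasc
      have e1 : e * w * t = (e * r) * w := by rw [mul_assoc, ← hrw, mul_assoc]
      have hc : e * r ∈ Subgroup.closure J :=
        Subgroup.mul_mem _ he.1 (Subgroup.subset_closure hr)
      rw [e1, stv_len_mul_left h hJ hDD hc, hx]
      have := he.2 r hr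
      omega
    · have h1 := h.len_mul_gen_ne ht w
      have h2 := h.len_mul_le e (w * t)
      rw [mul_assoc, hx]
      omega
  have := stv_lg_unique h (le_refl R) htop hw0
  rw [← this]
  group

/-- Existence: `w_J⁻¹ w_0` satisfies the conditions. -/
theorem stv_lg_star_of_top (h : Sys R) {J : Set W} (hJ : J ⊆ R) {e w0 : W}
    (he : stv_lg_IsTop R J e) (hw0 : stv_lg_IsTop R R w0) : stv_lg_Star R J (e⁻¹ * w0) := by
  have hei : e⁻¹ = e := stv_lg_inv h hJ he
  have hw0i : w0⁻¹ = w0 := stv_lg_inv h (le_refl R) hw0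
  have hL : ∀ c : W, len R (c * w0) + len R c = len R w0 :=
    fun c => stv_lg_mul_len h (le_refl R) hw0 (h.mem c)
  rw [hei]
  have hstar : len R (e * w0) + len R e = len R w0 := hL e
  have hasc : ∀ r ∈ J, len R (e * w0) < len R (r * (e * w0)) := by
    intro r hr
    have h1 := hL (r * e)
    have h2 := stv_lg_left_desc h hJ he hr
    have h3 := h.len_gen_mul (hJ hr) e
    rw [← mul_assoc]
    omega
  refine ⟨hasc, ?_, ?_⟩
  · intro r hr
    have h1 : e⁻¹ * r * e ∈ R := hJ (stv_lg_conj_mem' h hJ he hr)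
    have h2 := stv_lg_conj_mem h (le_refl R) hw0 h1
    rw [hei] at h1 h2
    have e1 : (e * w0)⁻¹ * r * (e * w0) = w0⁻¹ * (e * r * e) * w0 := by
      rw [mul_inv_rev, hei]
      group
    rw [e1, hw0i]
    rw [hw0i] at h2
    exact h2
  · intro t ht
    -- `t' = w0 t w0⁻¹`
    have ht' : w0 * t * w0⁻¹ ∈ R := stv_lg_conj_mem h (le_refl R) hw0 ht
    set t' := w0 * t * w0⁻¹ with ht'def
    have e1 : e * w0 * t = (e * t') * w0 := by
      rw [ht'def]
      group
    have h1 := hL (e * t')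
    have e2 : e * t' = (t' * e)⁻¹ := by
      rw [mul_inv_rev, hei, h.invol.inv_eq ht']
    have h2 : len R (e * t') = len R (t' * e) := by rw [e2, h.len_inv]
    by_cases htJ : t' ∈ J
    · have h3 := stv_lg_left_desc h hJ he htJ
      have h4 := h.len_gen_mul ht' e
      constructor
      · intro _
        refine ⟨e⁻¹ * t' * e, stv_lg_conj_mem' h hJ he htJ, ?_⟩
        rw [e1, hei]
        have hee : e * e = 1 := by
          have := mul_inv_cancel e
          rwa [hei] at this
        calc e * t' * e * (e * w0) = e * t' * (e * e) * w0 := by group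
          _ = e * t' * w0 := by rw [hee, mul_one]
      · intro _
        rw [e1]
        omega
    · have h3 := stv_lg_len_gen_mul_of_notMem h hJ ht' htJ he.1
      constructor
      · intro hlt
        rw [e1] at hlt
        omega
      · rintro ⟨r, hr, hrw⟩
        have := hasc r hr
        rw [hrw, e1] at this
        omega

/-- Existence and uniqueness of `w*`. -/
theorem stv_lg_star_existsUnique (h : Sys R) [Finite W] {J : Set W} (hJ : J ⊆ R) :
    ∃ w : W, stv_lg_Star R J w ∧ ∀ w' : W, stv_lg_Star R J w' → w' = w := by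
  obtain ⟨e, he⟩ := stv_lg_exists h hJ
  obtain ⟨w0, hw0⟩ := stv_lg_exists h (le_refl R)
  exact ⟨e⁻¹ * w0, stv_lg_star_of_top h hJ he hw0,
    fun w' hw' => stv_lg_star_eq h hJ he hw0 hw'⟩

end Cfsg.Agent.StV
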