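import Mathlib
import Cfsg.Agent.StV.KilmoyerBN
import Cfsg.Agent.StV.P4c

set_option autoImplicit false

/-!
Step (A2) in the indexed vocabulary: for `m` with `J ⊆ ascL m` and `K ⊆ ascR m`,
`P_J ∩ ṁ P_K ṁ⁻¹ ≤ P_{J ∩ m K m⁻¹}`; and the resulting form of step (A3).
-/

namespace Cfsg.Agent.StV

open Cfsg Cfsg.Agent.Helper7.BN Cfsg.Agent.Helper7.InvWords
  Cfsg.Agent.Lead.CoxComb Cfsg.Agent.Lead.SteinBN Cfsg.Agent.Lead.SteinChar MulAction

universe u

variable {G : Type u} [Group G] (P : Cfsg.BNPair G)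
variable {ι : Type*} [DecidableEq ι] {I : Finset ι} {s : ι → G}

/-- The set `J ∩ w K w⁻¹` of `KilmoyerBN` in the indexed vocabulary. -/
theorem stv_JK_subset_image_meet (himg : s '' (I : Set ι) = P.S) {J K : Finset ι}
    (hK : K ⊆ I) (m : W P) :
    stv_JK P (s '' (J : Set ι)) (s '' (K : Set ι)) m ⊆
      s '' ((stv_meet P s J K m : Finset ι) : Set ι) := by
  classical
  rintro t ⟨⟨j, hj, rfl⟩, hsN, hconj⟩
  refine ⟨j, ?_, rfl⟩
  rw [Finset.mem_coe]
  unfold stv_meet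
  rw [Finset.mem_filter]
  refine ⟨hj, ?_⟩
  rw [Rset_image P himg hK] at hconj
  obtain ⟨k, hk, hke⟩ := hconj
  refine ⟨k, hk, ?_⟩
  rw [rr_eq P hsN, hke]
  group

/-- Step (A2), in the form used by `stv_into_of_fixed`. -/
theorem stv_A2 (himg : s '' (I : Set ι) = P.S) {J K : Finset ι} (hJ : J ⊆ I) (hK : K ⊆ I)
    {m : W P} (hJm : J ⊆ ascL P I s m) (hKm : K ⊆ ascR P I s m) :
    ∀ x ∈ P.parabolic (s '' (J : Set ι)),
      (rep P m)⁻¹ * x * rep P m ∈ P.parabolic (s '' (K : Set ι)) →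
        x ∈ P.parabolic (s '' ((stv_meet P s J K m : Finset ι) : Set ι)) := by
  intro x hx hx'
  have hw : m ∈ DD (RS P) (Rset P (s '' (J : Set ι))) (Rset P (s '' (K : Set ι))) :=
    (mem_DD_iff P himg hJ hK m).mpr ⟨hJm, hKm⟩
  have h1 := stv_parabolic_inf_conj_le P (image_subset_S P himg hJ) (image_subset_S P himg hK)
    hw hx hx'
  exact parabolic_mono P (stv_JK_subset_image_meet P himg hK m) h1

/-- Step (A3) with (A2) discharged: the hypothesis `h3` of `stv_St_apply`. -/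
theorem stv_h3 (himg : s '' (I : Set ι) = P.S) {J : Finset ι} (hJ : J ⊆ I) {g : G}
    (hg : g ∈ P.parabolic (s '' (J : Set ι)))
    (hmin : ∀ J2, J2 ⊆ I → ∀ a : G, a * g * a⁻¹ ∈ P.parabolic (s '' (J2 : Set ι)) →
      J.card ≤ J2.card) :
    ∀ K, K ⊆ I → ∀ m : W P, J ⊆ ascL P I s m → K ⊆ ascR P I s m →
      stv_F P (s '' (J : Set ι)) (s '' (K : Set ι)) g m ≠ 0 → stv_into P s J K m := by
  intro K hK m hJm hKm hF
  exact stv_into_of_fixed P hJ hg (stv_A2 P himg hJ hK hJm hKm) hmin hF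

end Cfsg.Agent.StV
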