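import Mathlib
import Cfsg.Prelude.Def_Characters
import Cfsg.Agent.Helper6.FixedTrace

/-!
# S2312, Part I (pure characters)

A character vanishing on all `p`-singular elements takes, at a `p`-regular element `g`, a value
divisible (in the algebraic integers) by the order of every `p`-subgroup of `C_G(g)`.
-/

set_option autoImplicit false

namespace Cfsg.Agent.StV

universe u

section partI

variable {G : Type u} [Group G] [Fintype G]

omit [Fintype G] in
/-- `g` of order prime to `p` commuting with a nontrivial `p`-element `q`: `g * q` is `p`-singular. -/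
theorem stv_partI_dvd_orderOf_mul (p : ℕ) [Fact p.Prime] (g q : G) (hgq : g * q = q * g)
    (hg : ¬ p ∣ orderOf g) (hq : ∃ k : ℕ, orderOf q = p ^ k) (hq1 : q ≠ 1) :
    p ∣ orderOf (g * q) := by
  obtain ⟨k, hk⟩ := hq
  have hp : p.Prime := Fact.out
  have hk0 : k ≠ 0 := by
    rintro rfl
    rw [pow_zero, orderOf_eq_one_iff] at hk
    exact hq1 hk
  have hcop : Nat.Coprime (orderOf g) (orderOf q) := by
    rw [hk]
    exact Nat.Coprime.pow_right k ((Nat.Prime.coprime_iff_not_dvd hp).2 hg).symm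
  have hcomm : Commute g q := hgq
  rw [hcomm.orderOf_mul_eq_mul_orderOf_of_coprime hcop, hk]
  exact Dvd.dvd.mul_left (dvd_pow_self p hk0) _

/-- P1 of S2312. -/
theorem stv_partI (p : ℕ) [Fact p.Prime] (χ : G → ℂ) (hχ : Cfsg.IsCharacter G χ)
    (hvan : ∀ x : G, p ∣ orderOf x → χ x = 0) (g : G) (hg : ¬ p ∣ orderOf g)
    (Q : Subgroup G) (hQ : IsPGroup p Q) (hQc : Q ≤ Subgroup.centralizer {g}) :
    ∃ z : ℂ, IsIntegral ℤ z ∧ χ g = (Nat.card Q : ℂ) * z := by
  classical
  obtain ⟨n, ρ, rfl⟩ := hχ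
  have hcomm : ∀ q ∈ Q, g * q = q * g := by
    intro q hq
    have := hQc hq
    rw [Subgroup.mem_centralizer_iff] at this
    exact this g (Set.mem_singleton g)
  have : Fintype Q := Fintype.ofFinite Q
  obtain ⟨β, hβ, hsum⟩ :=
    Cfsg.Agent.Helper6.isIntegral_avg_char_mul ρ Q g hcomm
  refine ⟨β, hβ, ?_⟩
  rw [← hsum]
  rw [Finset.sum_eq_single (1 : Q)]
  · simp
  · intro q _ hq1
    apply hvan
    apply stv_partI_dvd_orderOf_mul p g (q : G) (hcomm q q.2) hg
    · obtain ⟨k, hk⟩ := hQ q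
      obtain ⟨j, _, hj⟩ := (Nat.dvd_prime_pow (Fact.out : p.Prime)).1
        (orderOf_dvd_of_pow_eq_one hk)
      refine ⟨j, ?_⟩
      rw [← hj, Subgroup.orderOf_coe]
    · intro h
      apply hq1
      exact Subtype.ext h
  · intro h
    exact absurd (Finset.mem_univ _) h

end partI

end Cfsg.Agent.StV
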